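import Groth.Agent.AssTensor.Reduced
import Groth.Agent.GeomRedPull.Basic
import Groth.Agent.RefStalk.Refl
import Groth.Prelude.Def_PicGrp

/-!
# Geometrically reduced modules
-/

set_option autoImplicit false
set_option linter.style.haveILetI false
set_option backward.isDefEq.respectTransparency false

universe u

open CategoryTheory CategoryTheory.Limits AlgebraicGeometry IsLocalRing Groth.Agent.QC

namespace Groth.Agent.AssTensor

theorem isIso_fromSpecResidueField (K : Type u) [Field K] (p : Spec (CommRingCat.of K)) :
    IsIso ((Spec (CommRingCat.of K)).fromSpecResidueField p) := by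
  have : Subsingleton (Spec (CommRingCat.of K)) := inferInstanceAs (Subsingleton (PrimeSpectrum K))
  have : IsClosedImmersion ((Spec (CommRingCat.of K)).fromSpecResidueField p) :=
    IsClosedImmersion.of_isPreimmersion _ (Set.subsingleton_of_subsingleton.isClosed)
  have : Surjective ((Spec (CommRingCat.of K)).fromSpecResidueField p) :=
    ⟨fun y => ⟨IsLocalRing.closedPoint _, Subsingleton.elim _ _⟩⟩
  exact isIso_of_isClosedImmersion_of_surjective _

theorem isReducedMod_struct_spec (K : Type u) [Field K] :
    AssSch.IsReducedMod (Coh.structureModule (Spec (CommRingCat.of K))) := by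
  haveI : AlgebraicGeometry.IsReduced (Spec (CommRingCat.of K)) := inferInstance
  refine ⟨fun a _ b _ _ => Subsingleton.elim (α := PrimeSpectrum K) a b, fun a ha => ?_⟩
  obtain ⟨e, -⟩ := RefStalk.exists_structStalk a
  rw [← e.length_eq]
  exact length_eq_one_of_ass ha

variable {k : Type u} [Field k] {X : Scheme.{u}} (f : X ⟶ Spec (CommRingCat.of k))

/-- base change of a module along a field extension, as an external tensor product -/
noncomputable def bcTensorIso (F : X.Modules) (K : Type u) [Field K] [Algebra k K] :
    CohB1.tensorMod ((Scheme.Modules.pullback (pullback.fst f (Spec.map (CommRingCat.ofHom (algebraMap k K))))).obj F)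
      ((Scheme.Modules.pullback (pullback.snd f (Spec.map (CommRingCat.ofHom (algebraMap k K))))).obj
        (Coh.structureModule (Spec (CommRingCat.of K)))) ≅
      (Scheme.Modules.pullback (FBase.bcπ f K)).obj F :=
  PicGrp.tensorModIso (Iso.refl _) (DerPerf.pullUnitIso _) ≪≫ SecTwist.unitorR _

variable [IsLocallyNoetherian X] {F : X.Modules}

theorem isReducedMod_bc (hF : AssSch.IsReducedMod F)
    (hgr : ∀ x ∈ AssSch.Ass F, GeometricallyReduced (X.fromSpecResidueField x ≫ f))
    (K : Type u) [Field K] [Algebra k K] :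
    AssSch.IsReducedMod ((Scheme.Modules.pullback (FBase.bcπ f K)).obj F) := by
  refine isReducedMod_of_iso (bcTensorIso f F K)
    (isReducedMod_tensor f _ hF (isReducedMod_struct_spec K) fun x hx y _ => ?_)
  haveI := hgr x hx
  exact GeomRedPull.isReduced_pullback _ _

theorem geomReduced_of_forall
    (h : ∀ (k' : Type u) [Field k'] [Algebra k k'] [FiniteDimensional k k'] [IsPurelyInseparable k k'],
      AssSch.IsReducedMod ((Scheme.Modules.pullback (FBase.bcπ f k')).obj F)) :
    AssSch.IsReducedMod F ∧ ∀ x ∈ AssSch.Ass F, GeometricallyReduced (X.fromSpecResidueField x ≫ f) := by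
  haveI : IsIso (Spec.map (CommRingCat.ofHom (algebraMap k k))) := by
    rw [show CommRingCat.ofHom (algebraMap k k) = 𝟙 (CommRingCat.of k) from rfl, Spec.map_id]
    infer_instance
  haveI : IsIso (FBase.bcπ f k) :=
    inferInstanceAs (IsIso (pullback.fst f (Spec.map (CommRingCat.ofHom (algebraMap k k)))))
  have hF : AssSch.IsReducedMod F := isReducedMod_of_pullback_iso (FBase.bcπ f k) F (h k)
  refine ⟨hF, fun x hx => ?_⟩
  letI : (Spec (X.residueField x)).Over (Spec (CommRingCat.of k)) := ⟨X.fromSpecResidueField x ≫ f⟩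
  refine (GeomProp.geometricallyReduced_iff_forall k (Spec (X.residueField x))).2 fun v =>
    (GeomProp.isGeomReducedAt_iff_pi k (Spec (X.residueField x)) v).2 fun k' _ _ _ _ v' _ => ?_
  let g := Spec.map (CommRingCat.ofHom (algebraMap k k'))
  obtain ⟨p, -, hp⟩ : ∃ p : Spec (CommRingCat.of k'), True ∧ p ∈ AssSch.Ass (Coh.structureModule (Spec (CommRingCat.of k'))) := by
    obtain ⟨p, -, hp⟩ := AssLib.exists_ass_specializes (M := Coh.structureModule (Spec (CommRingCat.of k')))
      (isQCoh_unit _) (AssLib.nontrivial_struct (IsLocalRing.closedPoint k'))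
    exact ⟨p, trivial, hp⟩
  haveI := isReduced_pair_of_isReducedMod f g hF (isReducedMod_struct_spec k')
    (isReducedMod_of_iso (bcTensorIso f F k').symm (h k')) x hx p hp
  haveI := isIso_fromSpecResidueField k' p
  let m := pullback.map (X.fromSpecResidueField x ≫ f) ((Spec (CommRingCat.of k')).fromSpecResidueField p ≫ g)
    (X.fromSpecResidueField x ≫ f) g (𝟙 _) ((Spec (CommRingCat.of k')).fromSpecResidueField p) (𝟙 _)
    (by simp) (by simp)
  haveI : AlgebraicGeometry.IsReduced (pullback (X.fromSpecResidueField x ≫ f) g) :=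
    isReduced_of_isOpenImmersion (inv m)
  haveI : AlgebraicGeometry.IsReduced (Curv2.bc k (Spec (X.residueField x)) k') :=
    ‹AlgebraicGeometry.IsReduced (pullback (X.fromSpecResidueField x ≫ f) g)›
  infer_instance

theorem isReducedMod_bc_iff :
    (∀ (k' : Type u) [Field k'] [Algebra k k'] [FiniteDimensional k k'] [IsPurelyInseparable k k'],
        AssSch.IsReducedMod ((Scheme.Modules.pullback (FBase.bcπ f k')).obj F)) ↔
      ∀ (K : Type u) [Field K] [Algebra k K] [IsLocallyNoetherian (FBase.bc f K)],
        AssSch.IsReducedMod ((Scheme.Modules.pullback (FBase.bcπ f K)).obj F) := by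
  refine ⟨fun h K _ _ _ => ?_, fun h k' _ _ _ _ => ?_⟩
  · obtain ⟨h1, h2⟩ := geomReduced_of_forall f h
    exact isReducedMod_bc f h1 h2 K
  · haveI : IsFinite (Spec.map (CommRingCat.ofHom (algebraMap k k'))) :=
      (IsFinite.SpecMap_iff _).2 (RingHom.finite_algebraMap.2 inferInstance)
    haveI : LocallyOfFiniteType (FBase.bcπ f k') := by unfold FBase.bcπ; infer_instance
    haveI := LocallyOfFiniteType.isLocallyNoetherian (FBase.bcπ f k')
    exact h k'

variable {Y : Scheme.{u}} [IsLocallyNoetherian Y] (g : Y ⟶ Spec (CommRingCat.of k)) {G : Y.Modules}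

theorem isReducedMod_externalTensor
    (h : ∀ (k' : Type u) [Field k'] [Algebra k k'] [FiniteDimensional k k'] [IsPurelyInseparable k k'],
      AssSch.IsReducedMod ((Scheme.Modules.pullback (FBase.bcπ f k')).obj F))
    (hG : AssSch.IsReducedMod G) :
    AssSch.IsReducedMod (CohB1.tensorMod ((Scheme.Modules.pullback (pullback.fst f g)).obj F)
      ((Scheme.Modules.pullback (pullback.snd f g)).obj G)) := by
  obtain ⟨h1, h2⟩ := geomReduced_of_forall f h
  refine isReducedMod_tensor f g h1 hG fun x hx y _ => ?_
  haveI := h2 x hx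
  exact GeomRedPull.isReduced_pullback _ _

end Groth.Agent.AssTensor
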