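import Groth.Agent.S2069
import Groth.Agent.DQCoh.BCAlg
import Mathlib.LinearAlgebra.TensorProduct.Quotient
import Mathlib.RingTheory.LocalRing.Quotient

/-!
Associated primes of `F ⊗ G` at a point of a fibre product: local algebra.
-/

set_option autoImplicit false
set_option linter.style.haveILetI false

universe u

open TensorProduct IsLocalRing Groth.Agent.DQCoh

namespace Groth.Agent.AssTensor

theorem isAss_maximalIdeal_iff_of_surjective {C C' M : Type u} [CommRing C] [CommRing C'] [IsLocalRing C]
    [IsLocalRing C'] [Algebra C C'] (hs : Function.Surjective (algebraMap C C')) [AddCommGroup M] [Module C M]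
    [Module C' M] [IsScalarTower C C' M] :
    IsAssociatedPrime (maximalIdeal C') M ↔ IsAssociatedPrime (maximalIdeal C) M := by
  haveI : IsLocalHom (algebraMap C C') := IsLocalHom.of_surjective _ hs
  have hm : (maximalIdeal C').comap (algebraMap C C') = maximalIdeal C :=
    ((IsLocalRing.local_hom_TFAE (algebraMap C C')).out 0 4).1 ‹IsLocalHom (algebraMap C C')›
  have hc : ∀ x : M, ((⊥ : Submodule C' M).colon {x}).comap (algebraMap C C') = (⊥ : Submodule C M).colon {x} :=
    fun x => by
      ext c
      rw [Ideal.mem_comap, Submodule.mem_colon_singleton, Submodule.mem_colon_singleton, Submodule.mem_bot,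
        Submodule.mem_bot, algebraMap_smul]
  constructor
  · rintro ⟨-, x, hx⟩
    exact ⟨inferInstance, x, by rw [← hm, hx, Ideal.comap_radical, hc]⟩
  · rintro ⟨-, x, hx⟩
    refine ⟨inferInstance, x, Ideal.comap_injective_of_surjective _ hs ?_⟩
    rw [hm, hx, Ideal.comap_radical, hc]

/-- For a flat module the maximal ideal is associated to the tensor product iff it is on both sides. -/
theorem isAss_tensor_iff {R S : Type u} [CommRing R] [IsNoetherianRing R] [IsLocalRing R] [CommRing S]
    [IsLocalRing S] [Algebra R S] [IsLocalHom (algebraMap R S)] (N M : Type u) [AddCommGroup N] [Module S N]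
    [Module R N] [IsScalarTower R S N] [Module.Flat R N] [AddCommGroup M] [Module R M] :
    IsAssociatedPrime (maximalIdeal S) (N ⊗[R] M) ↔ IsAssociatedPrime (maximalIdeal R) M ∧
      IsAssociatedPrime (maximalIdeal S)
        (N ⧸ (maximalIdeal R).map (algebraMap R S) • (⊤ : Submodule S N)) := by
  constructor
  · intro h
    have h' : maximalIdeal S ∈ associatedPrimes S (N ⊗[R] M) := h
    rw [S2069.result] at h'
    obtain ⟨p, hp, hq⟩ := Set.mem_iUnion₂.1 h'
    suffices p = maximalIdeal R by subst this; exact ⟨hp, hq⟩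
    haveI := hp.1
    refine le_antisymm (IsLocalRing.le_maximalIdeal hp.1.ne_top) fun a ha => ?_
    by_contra hap
    obtain ⟨-, x, hx⟩ := hq
    obtain ⟨n, rfl⟩ := Submodule.Quotient.mk_surjective _ x
    have ham : algebraMap R S a ∈ maximalIdeal S := map_nonunit (algebraMap R S) a ha
    obtain ⟨k, hk⟩ := hx.le ham
    rw [Submodule.mem_colon_singleton, Submodule.mem_bot, ← map_pow, algebraMap_smul,
      ← Submodule.Quotient.mk_smul, Submodule.Quotient.mk_eq_zero, ← Submodule.restrictScalars_mem R,
      Ideal.smul_restrictScalars, Submodule.restrictScalars_top] at hk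
    have hreg : Function.Injective fun z : N ⊗[R] (R ⧸ p) => a ^ k • z := by
      have h1 : Function.Injective ((a ^ k • LinearMap.id : R ⧸ p →ₗ[R] R ⧸ p)) := fun u v huv => by
        obtain ⟨u, rfl⟩ := Ideal.Quotient.mk_surjective u
        obtain ⟨v, rfl⟩ := Ideal.Quotient.mk_surjective v
        refine Ideal.Quotient.eq.2 ?_
        have h2 : Ideal.Quotient.mk p (a ^ k * u) = Ideal.Quotient.mk p (a ^ k * v) := huv
        rw [Ideal.Quotient.eq, ← mul_sub] at h2
        exact (hp.1.mem_or_mem h2).resolve_left fun h3 => hap (hp.1.mem_of_pow_mem k h3)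
      have h2 := Module.Flat.lTensor_preserves_injective_linearMap (M := N) _ h1
      intro u v huv
      refine h2 ?_
      simpa using huv
    let e := TensorProduct.tensorQuotEquivQuotSMul N p
    have h0 : a ^ k • (Submodule.Quotient.mk n : N ⧸ p • (⊤ : Submodule R N)) = 0 := by
      rw [← Submodule.Quotient.mk_smul, Submodule.Quotient.mk_eq_zero]; exact hk
    have h1 : e.symm (Submodule.Quotient.mk n) = 0 := hreg (show a ^ k • _ = a ^ k • (0 : N ⊗[R] (R ⧸ p)) by
      rw [← map_smul, h0, map_zero, smul_zero])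
    rw [LinearEquiv.map_eq_zero_iff, Submodule.Quotient.mk_eq_zero, ← Submodule.restrictScalars_top (R := S) (S := R) (M := N),
      ← Ideal.smul_restrictScalars, Submodule.restrictScalars_mem] at h1
    have h3 : (1 : S) ∈ (⊥ : Submodule S (N ⧸ p.map (algebraMap R S) • (⊤ : Submodule S N))).colon
        {Submodule.Quotient.mk n} := by
      rw [Submodule.mem_colon_singleton, Submodule.mem_bot, one_smul, Submodule.Quotient.mk_eq_zero]
      exact h1
    exact (maximalIdeal.isMaximal S).ne_top ((Ideal.eq_top_iff_one _).2 (hx.ge (Ideal.le_radical h3)))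
  · rintro ⟨hM, hN⟩
    change maximalIdeal S ∈ associatedPrimes S (N ⊗[R] M)
    rw [S2069.result]
    exact Set.mem_iUnion₂.2 ⟨_, hM, hN⟩

/-- A module flat over a Noetherian local ring. -/
theorem isAss_of_flat_iff {R S : Type u} [CommRing R] [IsNoetherianRing R] [IsLocalRing R] [CommRing S]
    [IsLocalRing S] [Algebra R S] [IsLocalHom (algebraMap R S)] (N : Type u) [AddCommGroup N] [Module S N]
    [Module R N] [IsScalarTower R S N] [Module.Flat R N] :
    IsAssociatedPrime (maximalIdeal S) N ↔ IsAssociatedPrime (maximalIdeal R) R ∧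
      IsAssociatedPrime (maximalIdeal S)
        (N ⧸ (maximalIdeal R).map (algebraMap R S) • (⊤ : Submodule S N)) :=
  (LinearEquiv.isAssociatedPrime_iff (TensorProduct.AlgebraTensorModule.rid R S N).symm).trans
    (isAss_tensor_iff N R)

section Pair

variable {R A B C : Type u} [CommRing R] [IsLocalRing R] [CommRing A] [IsLocalRing A] [CommRing B]
  [IsLocalRing B] [CommRing C] [IsLocalRing C] [Algebra R A] [Algebra R B] [Algebra R C] [Algebra A C]
  [Algebra B C] [IsScalarTower R A C] [IsScalarTower R B C] [IsLocalHom (algebraMap R A)]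
  [IsLocalHom (algebraMap R B)] [IsLocalHom (algebraMap A C)] [IsLocalHom (algebraMap B C)]

variable (h : (BCAlg.cmpHom R A B C).Flat)

include h in
theorem flat_cmpHom_swap : (BCAlg.cmpHom R B A C).Flat := by
  have he : BCAlg.cmpHom R B A C =
      (BCAlg.cmpHom R A B C).comp (Algebra.TensorProduct.comm R B A).toRingEquiv.toRingHom :=
    RingHom.ext fun z => by
      induction z using TensorProduct.induction_on with
      | zero => simp only [map_zero]
      | add a b ha hb => rw [map_add, map_add, ha, hb]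
      | tmul b a => exact mul_comm _ _
  rw [he]
  exact RingHom.Flat.comp
    (RingHom.Flat.of_bijective (Algebra.TensorProduct.comm R B A).toRingEquiv.bijective) h

include h in
/-- The fibre of `C` over the closed point of `A` is flat over the fibre of `B` over that of `R`. -/
theorem flat_quotientMap (hle : (maximalIdeal R).map (algebraMap R B) ≤
      ((maximalIdeal A).map (algebraMap A C)).comap (algebraMap B C)) :
    (Ideal.quotientMap ((maximalIdeal A).map (algebraMap A C)) (algebraMap B C) hle).Flat := by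
  let k := R ⧸ maximalIdeal R
  let K := A ⧸ maximalIdeal A
  let B' := B ⧸ (maximalIdeal R).map (algebraMap R B)
  let C' := C ⧸ (maximalIdeal A).map (algebraMap A C)
  letI : Field k := Ideal.Quotient.field _
  let ιA : k →+* K := Ideal.quotientMap _ (algebraMap R A) fun a ha => map_nonunit (algebraMap R A) a ha
  let ιB : k →+* B' := Ideal.quotientMap _ (algebraMap R B) Ideal.le_comap_map
  let ιK : K →+* C' := Ideal.quotientMap _ (algebraMap A C) Ideal.le_comap_map
  let ιC : B' →+* C' := Ideal.quotientMap _ (algebraMap B C) hle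
  letI : Algebra k K := ιA.toAlgebra
  letI : Algebra k B' := ιB.toAlgebra
  letI : Algebra K C' := ιK.toAlgebra
  letI : Algebra B' C' := ιC.toAlgebra
  letI : Algebra k C' := (ιK.comp ιA).toAlgebra
  haveI : IsScalarTower k K C' := IsScalarTower.of_algebraMap_eq fun _ => rfl
  haveI : IsScalarTower k B' C' := IsScalarTower.of_algebraMap_eq fun r => by
    obtain ⟨r, rfl⟩ := Ideal.Quotient.mk_surjective r
    exact congrArg (Ideal.Quotient.mk _) ((IsScalarTower.algebraMap_apply R A C r).symm.trans
      (IsScalarTower.algebraMap_apply R B C r))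
  let T := A ⊗[R] B
  let φ : T →+* C := BCAlg.cmpHom R A B C
  let J : Ideal T := (maximalIdeal A).map (Algebra.TensorProduct.includeLeftRingHom : A →+* T)
  letI : Algebra T C := φ.toAlgebra
  haveI : Module.Flat T C := h
  -- the comparison of the two tensor products
  let qA : A →ₐ[R] K ⊗[k] B' :=
    { toRingHom := (Algebra.TensorProduct.includeLeftRingHom : K →+* K ⊗[k] B').comp (Ideal.Quotient.mk _)
      commutes' := fun _ => rfl }
  let qB : B →ₐ[R] K ⊗[k] B' :=
    { toRingHom := (Algebra.TensorProduct.includeRight : B' →ₐ[k] K ⊗[k] B').toRingHom.comp (Ideal.Quotient.mk _)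
      commutes' := fun r => ((Algebra.TensorProduct.includeRight : B' →ₐ[k] K ⊗[k] B').commutes (Ideal.Quotient.mk _ r)).trans rfl }
  let q : T →+* K ⊗[k] B' := (Algebra.TensorProduct.lift qA qB fun _ _ => Commute.all _ _).toRingHom
  have hq : ∀ a b, q (a ⊗ₜ b) = (Ideal.Quotient.mk _ a) ⊗ₜ[k] (Ideal.Quotient.mk _ b) := fun a b => by
    show ((Ideal.Quotient.mk (maximalIdeal A) a) ⊗ₜ[k] (1 : B')) * ((1 : K) ⊗ₜ[k] Ideal.Quotient.mk _ b) = _
    rw [Algebra.TensorProduct.tmul_mul_tmul, mul_one, one_mul]
  have hqs : Function.Surjective q := fun z => by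
    induction z using TensorProduct.induction_on with
    | zero => exact ⟨0, map_zero _⟩
    | add a b ha hb =>
      obtain ⟨a, rfl⟩ := ha
      obtain ⟨b, rfl⟩ := hb
      exact ⟨a + b, map_add _ _ _⟩
    | tmul a b =>
      obtain ⟨a, rfl⟩ := Ideal.Quotient.mk_surjective a
      obtain ⟨b, rfl⟩ := Ideal.Quotient.mk_surjective b
      exact ⟨a ⊗ₜ b, hq a b⟩
  have hqJ : J ≤ RingHom.ker q := by
    rw [Ideal.map_le_iff_le_comap]
    intro a ha
    rw [Ideal.mem_comap, RingHom.mem_ker]
    show q (a ⊗ₜ 1) = 0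
    rw [hq, Ideal.Quotient.eq_zero_iff_mem.2 ha, TensorProduct.zero_tmul]
  letI : Algebra (T ⧸ J) C' := (Ideal.quotientMap _ φ (by
    rw [Ideal.map_le_iff_le_comap, Ideal.comap_comap]
    intro a ha
    rw [Ideal.mem_comap]
    show φ (a ⊗ₜ 1) ∈ _
    rw [BCAlg.cmpHom_tmul, map_one, mul_one]
    exact Ideal.mem_map_of_mem _ ha)).toAlgebra
  let rA : K →+* T ⧸ J := Ideal.quotientMap _ Algebra.TensorProduct.includeLeftRingHom Ideal.le_comap_map
  have hJB : (maximalIdeal R).map (algebraMap R B) ≤
      J.comap (Algebra.TensorProduct.includeRight : B →ₐ[R] T).toRingHom := by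
    rw [Ideal.map_le_iff_le_comap]
    intro r hr
    show (1 : A) ⊗ₜ[R] algebraMap R B r ∈ J
    rw [Algebra.algebraMap_eq_smul_one, ← TensorProduct.smul_tmul, ← Algebra.algebraMap_eq_smul_one]
    exact Ideal.mem_map_of_mem _ (map_nonunit (algebraMap R A) r hr)
  let rB : B' →+* T ⧸ J := Ideal.quotientMap _ _ hJB
  letI : Algebra k (T ⧸ J) := (rA.comp ιA).toAlgebra
  let r : K ⊗[k] B' →ₐ[k] T ⧸ J := Algebra.TensorProduct.lift
    { toRingHom := rA, commutes' := fun _ => rfl }
    { toRingHom := rB
      commutes' := fun x => by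
        obtain ⟨x, rfl⟩ := Ideal.Quotient.mk_surjective x
        show Ideal.Quotient.mk J ((1 : A) ⊗ₜ[R] algebraMap R B x) = Ideal.Quotient.mk J (algebraMap R A x ⊗ₜ[R] 1)
        rw [Algebra.algebraMap_eq_smul_one, Algebra.algebraMap_eq_smul_one, TensorProduct.smul_tmul] }
    fun _ _ => Commute.all _ _
  have hrq : ∀ t, r (q t) = Ideal.Quotient.mk J t := fun t => by
    induction t using TensorProduct.induction_on with
    | zero => simp only [map_zero]
    | add a b ha hb => rw [map_add, map_add, map_add, ha, hb]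
    | tmul a b =>
      rw [hq]
      show Ideal.Quotient.mk J (a ⊗ₜ[R] 1) * Ideal.Quotient.mk J (1 ⊗ₜ[R] b) = _
      rw [← map_mul, Algebra.TensorProduct.tmul_mul_tmul, mul_one, one_mul]
  have hflat : (BCAlg.cmpHom k K B' C').Flat := by
    have h1 : Module.Flat (T ⧸ J) C' := by
      have hmap : J.map φ = (maximalIdeal A).map (algebraMap A C) := by
        rw [Ideal.map_map]
        congr 1
        refine RingHom.ext fun a => ?_
        show φ (a ⊗ₜ 1) = _
        rw [BCAlg.cmpHom_tmul, map_one, mul_one]
      let e0 : (T ⧸ J) ⊗[T] C ≃ₗ[T] C' := (TensorProduct.quotTensorEquivQuotSMul C J).trans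
        (Submodule.quotEquivOfEq _ (((maximalIdeal A).map (algebraMap A C)).restrictScalars T) (by
          rw [Ideal.smul_top_eq_map, ← hmap]; rfl) |>.trans (Submodule.Quotient.restrictScalarsEquiv T _))
      have e0' : ∀ (s : T ⧸ J) (z : (T ⧸ J) ⊗[T] C), e0 (s • z) = s • e0 z := fun s z => by
        obtain ⟨s, rfl⟩ := Ideal.Quotient.mk_surjective s
        rw [← Ideal.Quotient.algebraMap_eq, IsScalarTower.algebraMap_smul, map_smul]
        obtain ⟨c, hc⟩ := Ideal.Quotient.mk_surjective (e0 z)
        rw [← hc]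
        rfl
      exact Module.Flat.of_linearEquiv ({ e0 with map_smul' := e0' } : (T ⧸ J) ⊗[T] C ≃ₗ[T ⧸ J] C').symm
    have h2 : BCAlg.cmpHom k K B' C' = (algebraMap (T ⧸ J) C').comp r.toRingHom := by
      refine RingHom.ext fun z => ?_
      obtain ⟨t, rfl⟩ := hqs z
      rw [RingHom.comp_apply, AlgHom.toRingHom_eq_coe, RingHom.coe_coe, hrq]
      induction t using TensorProduct.induction_on with
      | zero => simp only [map_zero]
      | add a b ha hb => rw [map_add, map_add, map_add, map_add, ha, hb]
      | tmul a b => rw [hq, BCAlg.cmpHom_tmul]; rfl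
    rw [h2]
    refine RingHom.Flat.comp (RingHom.Flat.of_bijective ⟨fun z w hzw => ?_, fun t => ?_⟩) h1
    · obtain ⟨z, rfl⟩ := hqs z
      obtain ⟨w, rfl⟩ := hqs w
      change r (q z) = r (q w) at hzw
      rw [hrq, hrq, Ideal.Quotient.eq] at hzw
      exact sub_eq_zero.1 (by rw [← map_sub]; exact hqJ hzw)
    · obtain ⟨t, rfl⟩ := Ideal.Quotient.mk_surjective t
      exact ⟨q t, hrq t⟩
  have hB : Module.Flat B' (C' ⊗[K] K) := BCAlg.flat_baseChange hflat K
  exact Module.Flat.of_linearEquiv ((TensorProduct.AlgebraTensorModule.rid K C' C').symm.restrictScalars B')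

include h in
/-- The local criterion for associated points of a tensor product on a fibre product. -/
theorem isAss_pair_iff [IsNoetherianRing A] [IsNoetherianRing B] (F G : Type u) [AddCommGroup F] [Module A F]
    [AddCommGroup G] [Module B G] [Module R G] [IsScalarTower R B G] [Module.Flat R G] :
    IsAssociatedPrime (maximalIdeal C) ((C ⊗[A] F) ⊗[C] (C ⊗[B] G)) ↔
      IsAssociatedPrime (maximalIdeal A) F ∧
      IsAssociatedPrime (maximalIdeal B) (G ⧸ (maximalIdeal R).map (algebraMap R B) • (⊤ : Submodule B G)) ∧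
      IsAssociatedPrime (maximalIdeal C)
        (C ⧸ (maximalIdeal A).map (algebraMap A C) ⊔ (maximalIdeal B).map (algebraMap B C)) := by
  haveI : Module.Flat A (C ⊗[B] G) := BCAlg.flat_baseChange (flat_cmpHom_swap h) G
  let e1 : (C ⊗[A] F) ⊗[C] (C ⊗[B] G) ≃ₗ[C] (C ⊗[B] G) ⊗[A] F :=
    (TensorProduct.comm C _ _).trans (TensorProduct.AlgebraTensorModule.cancelBaseChange A C C (C ⊗[B] G) F)
  rw [LinearEquiv.isAssociatedPrime_iff e1, isAss_tensor_iff (C ⊗[B] G) F]
  refine and_congr_right fun _ => ?_
  let I := (maximalIdeal A).map (algebraMap A C)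
  let mB := (maximalIdeal R).map (algebraMap R B)
  let C' := C ⧸ I
  let B' := B ⧸ mB
  have hIle : I ≤ maximalIdeal C := Ideal.map_le_iff_le_comap.2 fun a ha => map_nonunit (algebraMap A C) a ha
  haveI : Nontrivial C' := Ideal.Quotient.nontrivial_iff.2 (ne_top_of_le_ne_top (maximalIdeal.isMaximal C).ne_top hIle)
  haveI : IsLocalRing C' := IsLocalRing.of_surjective' _ Ideal.Quotient.mk_surjective
  have hmBle : mB ≤ maximalIdeal B := Ideal.map_le_iff_le_comap.2 fun a ha => map_nonunit (algebraMap R B) a ha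
  haveI : Nontrivial B' := Ideal.Quotient.nontrivial_iff.2 (ne_top_of_le_ne_top (maximalIdeal.isMaximal B).ne_top hmBle)
  haveI : IsLocalRing B' := IsLocalRing.of_surjective' _ Ideal.Quotient.mk_surjective
  have hle : mB ≤ I.comap (algebraMap B C) := by
    rw [Ideal.map_le_iff_le_comap, Ideal.comap_comap, ← IsScalarTower.algebraMap_eq, IsScalarTower.algebraMap_eq R A C,
      ← Ideal.comap_comap]
    exact fun r hr => Ideal.mem_map_of_mem _ (map_nonunit (algebraMap R A) r hr)
  letI : Algebra B' C' := (Ideal.quotientMap I (algebraMap B C) hle).toAlgebra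
  haveI : IsScalarTower B B' C' := IsScalarTower.of_algebraMap_eq fun _ => rfl
  haveI : Module.Flat B' C' := flat_quotientMap h hle
  haveI : IsLocalHom (algebraMap B' C') := ⟨fun b hb => by
    obtain ⟨b, rfl⟩ := Ideal.Quotient.mk_surjective b
    haveI : IsLocalHom (Ideal.Quotient.mk I) := IsLocalHom.of_surjective _ Ideal.Quotient.mk_surjective
    exact (isUnit_of_map_unit (algebraMap B C) b
      (isUnit_of_map_unit (Ideal.Quotient.mk I) _ hb)).map (Ideal.Quotient.mk mB)⟩
  let G' := B' ⊗[B] G
  let e2 : ((C ⊗[B] G) ⧸ I • (⊤ : Submodule C (C ⊗[B] G))) ≃ₗ[C] C' ⊗[B] G :=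
    (TensorProduct.quotTensorEquivQuotSMul _ I).symm.trans (TensorProduct.AlgebraTensorModule.cancelBaseChange B C C C' G)
  let e3 : C' ⊗[B'] G' ≃ₗ[C'] C' ⊗[B] G := TensorProduct.AlgebraTensorModule.cancelBaseChange B B' C' C' G
  rw [LinearEquiv.isAssociatedPrime_iff e2,
    ← isAss_maximalIdeal_iff_of_surjective (C := C) (C' := C') Ideal.Quotient.mk_surjective,
    ← LinearEquiv.isAssociatedPrime_iff e3, isAss_tensor_iff (R := B') (S := C') C' G']
  refine and_congr ?_ ?_
  · rw [isAss_maximalIdeal_iff_of_surjective (C := B) (C' := B') Ideal.Quotient.mk_surjective]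
    exact LinearEquiv.isAssociatedPrime_iff (TensorProduct.quotTensorEquivQuotSMul G mB)
  · have hm : (maximalIdeal B').map (algebraMap B' C') = ((maximalIdeal B).map (algebraMap B C)).map (Ideal.Quotient.mk I) := by
      haveI : IsLocalHom (Ideal.Quotient.mk mB) := IsLocalHom.of_surjective _ Ideal.Quotient.mk_surjective
      have h1 : maximalIdeal B' = (maximalIdeal B).map (Ideal.Quotient.mk mB) := by
        have h2 : (maximalIdeal B').comap (Ideal.Quotient.mk mB) = maximalIdeal B :=
          ((IsLocalRing.local_hom_TFAE (Ideal.Quotient.mk mB)).out 0 4).1 ‹IsLocalHom (Ideal.Quotient.mk mB)›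
        rw [← h2, Ideal.map_comap_of_surjective _ Ideal.Quotient.mk_surjective]
      rw [h1, Ideal.map_map, Ideal.map_map]
      rfl
    rw [Ideal.smul_eq_mul, Ideal.mul_top, hm, isAss_maximalIdeal_iff_of_surjective (C := C) (C' := C') Ideal.Quotient.mk_surjective]
    exact LinearEquiv.isAssociatedPrime_iff
      (DoubleQuot.quotQuotEquivQuotSupₐ C I ((maximalIdeal B).map (algebraMap B C))).toLinearEquiv

end Pair

end Groth.Agent.AssTensor
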