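import Mathlib

/-!
A tensor product of two fields has no embedded associated primes.
-/

set_option autoImplicit false
set_option linter.style.haveILetI false

universe u

open TensorProduct

namespace Groth.Agent.AssTensor

theorem noZeroDivisors_tensor {k F K : Type u} [Field k] [Field F] [Algebra k F] [Field K] [Algebra k K]
    {ι : Type u} (φ : MvPolynomial ι k →ₐ[k] F) (hφ : Function.Injective φ)
    (hfrac : ∀ z : F, ∃ a b, φ b ≠ 0 ∧ z * φ b = φ a) : NoZeroDivisors (F ⊗[k] K) := by
  let P := MvPolynomial ι k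
  let e : P ⊗[k] K ≃ₐ[k] MvPolynomial ι K :=
    (Algebra.TensorProduct.comm k P K).trans ((MvPolynomial.algebraTensorAlgEquiv k K (σ := ι)).restrictScalars k)
  let ψ : P ⊗[k] K →ₐ[k] F ⊗[k] K := Algebra.TensorProduct.map φ (AlgHom.id k K)
  have hψ : Function.Injective ψ := by
    have := Module.Flat.rTensor_preserves_injective_linearMap (M := K) φ.toLinearMap hφ
    intro a b hab
    refine this ?_
    exact hab
  have hden : ∀ z : F ⊗[k] K, ∃ (b : P) (z' : P ⊗[k] K), φ b ≠ 0 ∧ z * (φ b ⊗ₜ 1) = ψ z' := fun z => by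
    induction z using TensorProduct.induction_on with
    | zero => exact ⟨1, 0, by simp, by simp⟩
    | tmul x y =>
      obtain ⟨a, b, hb, hab⟩ := hfrac x
      refine ⟨b, a ⊗ₜ y, hb, ?_⟩
      rw [Algebra.TensorProduct.tmul_mul_tmul, mul_one, hab]
      rfl
    | add z w hz hw =>
      obtain ⟨b, z', hb, hz'⟩ := hz
      obtain ⟨c, w', hc, hw'⟩ := hw
      refine ⟨b * c, z' * (c ⊗ₜ 1) + w' * (b ⊗ₜ 1), by rw [map_mul]; exact mul_ne_zero hb hc, ?_⟩
      rw [map_add, map_mul, map_mul ψ, map_mul ψ, ← hz', ← hw']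
      show _ = z * (φ b ⊗ₜ 1) * (φ c ⊗ₜ (1 : K)) + w * (φ c ⊗ₜ 1) * (φ b ⊗ₜ (1 : K))
      rw [add_mul, mul_assoc, mul_assoc, Algebra.TensorProduct.tmul_mul_tmul, Algebra.TensorProduct.tmul_mul_tmul,
        mul_one, mul_comm (φ c) (φ b)]
  have hcancel : ∀ (z : F ⊗[k] K) (b : P), φ b ≠ 0 → z * (φ b ⊗ₜ 1) = 0 → z = 0 := fun z b hb h => by
    have h1 := congrArg (· * ((φ b)⁻¹ ⊗ₜ[k] (1 : K))) h
    simp only [zero_mul, mul_assoc, Algebra.TensorProduct.tmul_mul_tmul, mul_inv_cancel₀ hb, mul_one] at h1
    rwa [← Algebra.TensorProduct.one_def, mul_one] at h1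
  refine ⟨fun {z w} h => ?_⟩
  obtain ⟨b, z', hb, hz'⟩ := hden z
  obtain ⟨c, w', hc, hw'⟩ := hden w
  have h0 : ψ (z' * w') = 0 := by
    rw [map_mul, ← hz', ← hw', mul_mul_mul_comm, h, zero_mul]
  rw [← map_zero ψ] at h0
  have h1 := congrArg e (hψ h0)
  rw [map_mul, map_zero, mul_eq_zero] at h1
  rcases h1 with h1 | h1
  · left
    rw [EmbeddingLike.map_eq_zero_iff] at h1
    exact hcancel z b hb (by rw [hz', h1, map_zero])
  · right
    rw [EmbeddingLike.map_eq_zero_iff] at h1
    exact hcancel w c hc (by rw [hw', h1, map_zero])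

theorem eq_of_le_of_isAss_localization {D₀ D O : Type u} [CommRing D₀] [NoZeroDivisors D₀] [CommRing D]
    (φ : D₀ →+* D) (hint : φ.IsIntegral) (hreg : ∀ d, d ≠ 0 → IsSMulRegular D (φ d)) [CommRing O] [IsLocalRing O]
    [Algebra D O] (P : Ideal D) [P.IsPrime] [IsLocalization.AtPrime O P]
    (hass : IsAssociatedPrime (IsLocalRing.maximalIdeal O) O) (Q : Ideal D) [Q.IsPrime] (hQ : Q ≤ P) : Q = P := by
  by_contra hne
  letI := φ.toAlgebra
  haveI : Algebra.IsIntegral D₀ D := ⟨hint⟩
  have hlt := Ideal.IsIntegral.comap_lt_comap (R := D₀) (lt_of_le_of_ne hQ hne)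
  obtain ⟨d, hdP, hdQ⟩ := SetLike.exists_of_lt hlt
  have hd0 : d ≠ 0 := fun h => hdQ (h ▸ Ideal.zero_mem _)
  obtain ⟨-, x, hx⟩ := hass
  have hdm : algebraMap D O (φ d) ∈ IsLocalRing.maximalIdeal O :=
    (IsLocalization.AtPrime.to_map_mem_maximal_iff O P (φ d)).2 hdP
  obtain ⟨n, hn⟩ := hx.le hdm
  rw [Submodule.mem_colon_singleton, Submodule.mem_bot, ← map_pow, smul_eq_mul] at hn
  obtain ⟨⟨a, s⟩, has⟩ := IsLocalization.surj P.primeCompl x
  have h1 : algebraMap D O ((φ d) ^ n * a) = 0 := by
    rw [map_mul, ← has, ← mul_assoc, hn, zero_mul]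
  obtain ⟨⟨t, ht⟩, ht'⟩ := (IsLocalization.map_eq_zero_iff P.primeCompl O _).1 h1
  have h2 : t * a = 0 := ((hreg d hd0).pow n) (by
    show (φ d) ^ n • (t * a) = (φ d) ^ n • 0
    rw [smul_zero, smul_eq_mul, mul_left_comm]
    exact ht')
  have hx0 : x = 0 := by
    have h3 : algebraMap D O t * (x * algebraMap D O s) = 0 := by rw [has, ← map_mul, h2, map_zero]
    have hu : IsUnit (algebraMap D O t) := IsLocalization.map_units O (⟨t, ht⟩ : P.primeCompl)
    have hu' : IsUnit (algebraMap D O s) := IsLocalization.map_units O s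
    exact hu'.mul_left_eq_zero.1 (hu.mul_right_eq_zero.1 h3)
  subst hx0
  refine (IsLocalRing.maximalIdeal.isMaximal O).ne_top (hx.trans (Ideal.radical_eq_top.2 ?_))
  rw [Ideal.eq_top_iff_one, Submodule.mem_colon_singleton, Submodule.mem_bot, one_smul]

set_option backward.isDefEq.respectTransparency false in
/-- In a tensor product of two fields the only associated primes are the minimal primes. -/
theorem eq_of_le_of_isAss_tensor_fields {k L K : Type u} [Field k] [Field L] [Field K] [Algebra k L] [Algebra k K]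
    {O : Type u} [CommRing O] [IsLocalRing O] [Algebra (L ⊗[k] K) O] (P : Ideal (L ⊗[k] K)) [P.IsPrime]
    [IsLocalization.AtPrime O P] (hass : IsAssociatedPrime (IsLocalRing.maximalIdeal O) O)
    (Q : Ideal (L ⊗[k] K)) [Q.IsPrime] (hQ : Q ≤ P) : Q = P := by
  obtain ⟨ι, x, hx⟩ := exists_isTranscendenceBasis' (R := k) (A := L)
  let F := IntermediateField.adjoin k (Set.range x)
  haveI : Algebra.IsAlgebraic F L := hx.isAlgebraic_field
  haveI : NoZeroDivisors (F ⊗[k] K) := by
    refine noZeroDivisors_tensor (MvPolynomial.aeval fun i =>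
      (⟨x i, IntermediateField.subset_adjoin k _ ⟨i, rfl⟩⟩ : F)) ?_ fun z => ?_
    · intro a b hab
      have h1 := congrArg F.val hab
      rw [← AlgHom.comp_apply, ← AlgHom.comp_apply, MvPolynomial.comp_aeval] at h1
      exact hx.1 h1
    · obtain ⟨a, b, hab⟩ := (IntermediateField.mem_adjoin_iff _ _).1 z.2
      have hv : ∀ p, F.val (MvPolynomial.aeval (fun i =>
          (⟨x i, IntermediateField.subset_adjoin k _ ⟨i, rfl⟩⟩ : F)) p) = MvPolynomial.aeval x p := fun p => by
        rw [← AlgHom.comp_apply, MvPolynomial.comp_aeval]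
        rfl
      have hs : ∀ y : Set.range x, ∃ i, x i = y := fun y => y.2
      choose g hg using hs
      have hren : ∀ p : MvPolynomial (Set.range x) k,
          MvPolynomial.aeval x (MvPolynomial.rename g p) = MvPolynomial.aeval ((↑) : Set.range x → L) p := fun p => by
        rw [MvPolynomial.aeval_rename]
        congr 2
        exact funext hg
      by_cases hb : MvPolynomial.aeval ((↑) : Set.range x → L) b = 0
      · refine ⟨0, 1, by simp, ?_⟩
        rw [map_one, mul_one, map_zero]
        exact Subtype.ext (by rw [hab, hb, div_zero]; rfl)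
      · refine ⟨MvPolynomial.rename g a, MvPolynomial.rename g b, fun h => hb ?_, ?_⟩
        · have := congrArg F.val h
          rwa [hv, hren, map_zero] at this
        · refine Subtype.ext ?_
          show (z : L) * F.val _ = F.val _
          rw [hv, hv, hren, hren, hab, div_mul_cancel₀ _ hb]
  let φ : F ⊗[k] K →ₐ[k] L ⊗[k] K := Algebra.TensorProduct.map F.val (AlgHom.id k K)
  refine eq_of_le_of_isAss_localization (D₀ := F ⊗[k] K) (D := L ⊗[k] K) φ.toRingHom ?_ (fun d hd => ?_) P hass Q hQ
  · intro z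
    induction z using TensorProduct.induction_on with
    | zero => exact RingHom.isIntegralElem_zero _
    | add a b ha hb => exact RingHom.IsIntegralElem.add _ ha hb
    | tmul l c =>
      rw [show l ⊗ₜ[k] c = (l ⊗ₜ[k] (1 : K)) * φ.toRingHom ((1 : F) ⊗ₜ c) from by
        show _ = (l ⊗ₜ[k] (1 : K)) * ((F.val 1) ⊗ₜ c)
        rw [map_one, Algebra.TensorProduct.tmul_mul_tmul, mul_one, one_mul]]
      refine RingHom.IsIntegralElem.mul _ ?_ (RingHom.isIntegralElem_map _)
      obtain ⟨p, hp, hp'⟩ := Algebra.IsIntegral.isIntegral (R := F) l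
      refine ⟨p.map (Algebra.TensorProduct.includeLeftRingHom : F →+* F ⊗[k] K), hp.map _, ?_⟩
      rw [Polynomial.eval₂_map]
      have h1 := congrArg (Algebra.TensorProduct.includeLeftRingHom : L →+* L ⊗[k] K) hp'
      rw [Polynomial.hom_eval₂, map_zero] at h1
      exact h1
  · let μ : F ⊗[k] K →ₗ[F] F ⊗[k] K := LinearMap.mulLeft F d
    have hμ : Function.Injective μ := fun a b hab => mul_left_cancel₀ hd hab
    have h1 := Module.Flat.lTensor_preserves_injective_linearMap (M := L) μ hμ
    let E := TensorProduct.AlgebraTensorModule.cancelBaseChange k F L L K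
    have hE : ∀ z, E (μ.lTensor L z) = φ d * E z := fun z => by
      induction z using TensorProduct.induction_on with
      | zero => simp
      | add a b ha hb => rw [map_add, map_add, map_add, mul_add, ha, hb]
      | tmul l w =>
        rw [LinearMap.lTensor_tmul]
        show E (l ⊗ₜ[F] (d * w)) = _
        clear hμ h1 hd
        induction d using TensorProduct.induction_on with
        | zero => simp
        | add a b ha hb => rw [add_mul, TensorProduct.tmul_add, map_add, map_add, add_mul, ha, hb]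
        | tmul f c =>
          induction w using TensorProduct.induction_on with
          | zero => simp
          | add a b ha hb => rw [mul_add, TensorProduct.tmul_add, TensorProduct.tmul_add, map_add, map_add, mul_add, ha, hb]
          | tmul f' c' =>
            rw [Algebra.TensorProduct.tmul_mul_tmul, TensorProduct.AlgebraTensorModule.cancelBaseChange_tmul,
              TensorProduct.AlgebraTensorModule.cancelBaseChange_tmul, Algebra.TensorProduct.map_tmul,
              Algebra.TensorProduct.tmul_mul_tmul, mul_smul, Algebra.smul_def]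
            rfl
    intro a b hab
    obtain ⟨a, rfl⟩ := E.surjective a
    obtain ⟨b, rfl⟩ := E.surjective b
    have hab' : φ d * E a = φ d * E b := hab
    rw [← hE, ← hE] at hab'
    rw [h1 (E.injective hab')]

end Groth.Agent.AssTensor
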