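import Groth.Agent.AssTensor.Single

/-!
Length one stalks of `f^*E ⊗ F`.
-/

set_option autoImplicit false
set_option linter.style.haveILetI false
set_option backward.isDefEq.respectTransparency false

universe u

open CategoryTheory CategoryTheory.Limits AlgebraicGeometry IsLocalRing TensorProduct

namespace Groth.Agent.AssTensor

theorem length_tensor_eq_one_iff {R S : Type u} [CommRing R] [IsNoetherianRing R] [IsLocalRing R] [CommRing S]
    [IsLocalRing S] [Algebra R S] [IsLocalHom (algebraMap R S)] (N M : Type u) [AddCommGroup N] [Module S N]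
    [Module R N] [IsScalarTower R S N] [Module.Flat R N] [Module.Finite S N] [Nontrivial N] [AddCommGroup M]
    [Module R M] [Module.Finite R M] [Nontrivial M] :
    Module.length S (N ⊗[R] M) = 1 ↔ Module.length R M = 1 ∧
      Module.length S (N ⧸ (maximalIdeal R).map (algebraMap R S) • (⊤ : Submodule S N)) = 1 := by
  let P := N ⧸ (maximalIdeal R).map (algebraMap R S) • (⊤ : Submodule S N)
  have hP : Nontrivial P := by
    rw [Submodule.Quotient.nontrivial_iff]
    intro htop
    have h1 : (⊤ : Submodule S N) ≤ maximalIdeal S • ⊤ :=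
      htop.ge.trans (Submodule.smul_mono_left (Ideal.map_le_iff_le_comap.2 fun a ha => map_nonunit (algebraMap R S) a ha))
    have h0 := Submodule.eq_bot_of_le_smul_of_le_jacobson_bot (maximalIdeal S) (⊤ : Submodule S N) Module.Finite.fg_top h1
      (by rw [IsLocalRing.jacobson_eq_maximalIdeal ⊥ bot_ne_top])
    exact not_subsingleton N (Submodule.subsingleton_iff S |>.mp (subsingleton_of_bot_eq_top h0.symm))
  have key : ∀ (V : Type u) [AddCommGroup V] [Module R V] [Module.Finite R V], Nontrivial V → Nontrivial (N ⊗[R] V) := by
    intro V _ _ _ hV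
    obtain ⟨f, v, hv⟩ := SupportLib.exists_functional (A := R) hV
    have hs : Function.Surjective (f.lTensor N) := LinearMap.lTensor_surjective N fun c => by
      obtain ⟨a, rfl⟩ := IsLocalRing.residue_surjective c
      exact ⟨a • v, by rw [map_smul, hv, Algebra.smul_def, mul_one]; rfl⟩
    haveI : Nontrivial (N ⊗[R] ResidueField R) := by
      refine ((TensorProduct.tensorQuotEquivQuotSMul N (maximalIdeal R)).toEquiv.nontrivial_congr).2 ?_
      rw [Submodule.Quotient.nontrivial_iff]
      intro h
      rw [← Submodule.restrictScalars_top (R := S) (S := R) (M := N), ← Ideal.smul_restrictScalars,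
        Submodule.restrictScalars_inj] at h
      exact (Submodule.Quotient.nontrivial_iff.1 hP) h
    exact hs.nontrivial
  obtain ⟨f, m, hm⟩ := SupportLib.exists_functional (A := R) (M := M) inferInstance
  have hfs : Function.Surjective f := fun c => by
    obtain ⟨a, rfl⟩ := IsLocalRing.residue_surjective c
    exact ⟨a • m, by rw [map_smul, hm, Algebra.smul_def, mul_one]; rfl⟩
  let V := LinearMap.ker f
  haveI : IsNoetherian R M := isNoetherian_of_isNoetherianRing_of_finite R M
  haveI : Module.Finite R V := Module.Finite.iff_fg.2 (IsNoetherian.noetherian V)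
  have hex : Function.Exact V.subtype f := LinearMap.exact_subtype_ker_map f
  have hκ : Module.length R (ResidueField R) = 1 := by
    rw [Module.length_eq_of_surjective (R := ResidueField R) IsLocalRing.residue_surjective]
    exact Module.length_eq_one _ _
  have h1 : Module.length R M = Module.length R V + 1 :=
    (Module.length_eq_add_of_exact V.subtype f V.subtype_injective hfs hex).trans (by rw [hκ])
  let f₁ : N ⊗[R] V →ₗ[S] N ⊗[R] M := TensorProduct.AlgebraTensorModule.lTensor S N V.subtype
  let g₁ : N ⊗[R] M →ₗ[S] N ⊗[R] ResidueField R := TensorProduct.AlgebraTensorModule.lTensor S N f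
  let e : (N ⊗[R] ResidueField R) ≃ₗ[S] P :=
    { (TensorProduct.tensorQuotEquivQuotSMul N (maximalIdeal R)).trans
        ((Submodule.quotEquivOfEq _ (((maximalIdeal R).map (algebraMap R S) • (⊤ : Submodule S N)).restrictScalars R)
          (by rw [Ideal.smul_restrictScalars, Submodule.restrictScalars_top])).trans
          (Submodule.Quotient.restrictScalarsEquiv R _)) with
      map_smul' := fun s z => by
        induction z using TensorProduct.induction_on with
        | zero => simp
        | add a b ha hb =>
          simp only [smul_add, map_add, LinearEquiv.coe_toLinearMap, RingHom.id_apply, AddHom.toFun_eq_coe,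
            LinearMap.coe_toAddHom, smul_add] at ha hb ⊢
          rw [ha, hb]
        | tmul n c =>
          obtain ⟨c, rfl⟩ := Ideal.Quotient.mk_surjective c
          show (Submodule.Quotient.mk (c • s • n) : P) = s • Submodule.Quotient.mk (c • n)
          rw [← Submodule.Quotient.mk_smul, smul_comm] }
  have h2 : Module.length S (N ⊗[R] M) = Module.length S (N ⊗[R] V) + Module.length S P :=
    (Module.length_eq_add_of_exact f₁ g₁ (Module.Flat.lTensor_preserves_injective_linearMap V.subtype V.subtype_injective)
      (LinearMap.lTensor_surjective N hfs) (lTensor_exact N hex hfs)).trans (by rw [e.length_eq])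
  have hP1 : Module.length S P ≠ 0 := Module.length_pos.ne'
  constructor
  · intro h
    rw [h2] at h
    by_cases hV : Nontrivial V
    · haveI := key V hV
      exfalso
      have a1 : 1 ≤ Module.length S (N ⊗[R] V) := Order.one_le_iff_pos.2 Module.length_pos
      have a2 : 1 ≤ Module.length S P := Order.one_le_iff_pos.2 Module.length_pos
      have := add_le_add a1 a2
      rw [h] at this
      exact absurd this (by decide)
    · haveI : Subsingleton V := not_nontrivial_iff_subsingleton.1 hV
      rw [h1, Module.length_eq_zero, zero_add]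
      rw [Module.length_eq_zero, zero_add] at h
      exact ⟨rfl, h⟩
  · rintro ⟨hM, hN⟩
    have hV : Module.length R V = 0 := by
      rw [h1] at hM
      have := (ENat.add_left_injective_of_ne_top (ENat.one_ne_top)) (hM.trans (zero_add 1).symm)
      exact this
    haveI : Subsingleton V := Module.length_eq_zero_iff.1 hV
    rw [h2, Module.length_eq_zero, zero_add, hN]

theorem length_pullback_of_surjective {X Y : Scheme.{u}} (f : X ⟶ Y) (M : Y.Modules) (x : X)
    (hs : Function.Surjective (f.stalkMap x).hom) :
    Module.length (X.presheaf.stalk x) (((Scheme.Modules.pullback f).obj M).presheaf.stalk x) =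
      Module.length (Y.presheaf.stalk (f x))
        (M.presheaf.stalk (f x) ⧸ RingHom.ker (f.stalkMap x).hom •
          (⊤ : Submodule (Y.presheaf.stalk (f x)) (M.presheaf.stalk (f x)))) := by
  letI := (f.stalkMap x).hom.toAlgebra
  rw [← (pullEquiv f M x).length_eq, ← Module.length_eq_of_surjective (S := Y.presheaf.stalk (f x)) hs]
  let e0 : (Y.presheaf.stalk (f x) ⧸ RingHom.ker (f.stalkMap x).hom) ≃ₗ[Y.presheaf.stalk (f x)] X.presheaf.stalk x :=
    LinearEquiv.ofBijective
      { toFun := RingHom.kerLift (f.stalkMap x).hom
        map_add' := map_add _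
        map_smul' := fun r z => by
          obtain ⟨z, rfl⟩ := Ideal.Quotient.mk_surjective z
          exact map_mul (f.stalkMap x).hom r z }
      ⟨RingHom.kerLift_injective _, fun z => by
        obtain ⟨r, rfl⟩ := hs z
        exact ⟨Ideal.Quotient.mk _ r, rfl⟩⟩
  exact ((LinearEquiv.rTensor _ e0.symm).trans (TensorProduct.quotTensorEquivQuotSMul _ _)).length_eq

/-- At an associated point of `f^*E ⊗ F`. -/
theorem length_pull_tensor_eq_one_iff {X Y : Scheme.{u}} [IsLocallyNoetherian Y] (f : X ⟶ Y) (E : Y.Modules)
    (hE : Coh.IsCoh E) (F : X.Modules) (hF : Coh.IsCoh F) (hfl : FlatMod.IsFlatOver f F) {y : Y} (w : f.fiber y)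
    (hy : Curv2.IsAssPoint E y) (hw : Curv2.IsAssPoint ((Scheme.Modules.pullback (f.fiberι y)).obj F) w) :
    Module.length (X.presheaf.stalk (f.fiberι y w))
        ((CohB1.tensorMod ((Scheme.Modules.pullback f).obj E) F).presheaf.stalk (f.fiberι y w)) = 1 ↔
      Module.length (Y.presheaf.stalk y) (E.presheaf.stalk y) = 1 ∧
        Module.length ((f.fiber y).presheaf.stalk w)
          (((Scheme.Modules.pullback (f.fiberι y)).obj F).presheaf.stalk w) = 1 := by
  rw [length_pullback_of_surjective _ _ _ (FibCrit.fiberι_stalkMap f y w).1, (FibCrit.fiberι_stalkMap f y w).2]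
  have hA := (isAssPoint_fibre_iff f F y w).1 hw
  obtain ⟨x, hx⟩ : ∃ x, x = f.fiberι y w := ⟨_, rfl⟩
  have hyx : f x = y := hx ▸ (f.range_fiberι y).le ⟨w, rfl⟩
  rw [← hx] at hA ⊢
  subst hyx
  letI := (f.stalkMap x).hom.toAlgebra
  letI := FlatMod.moduleStalkOver f F x
  haveI : IsScalarTower (Y.presheaf.stalk (f x)) (X.presheaf.stalk x) (F.presheaf.stalk x) :=
    IsScalarTower.of_algebraMap_smul fun _ _ => rfl
  haveI : IsLocalHom (algebraMap (Y.presheaf.stalk (f x)) (X.presheaf.stalk x)) :=
    inferInstanceAs (IsLocalHom (f.stalkMap x).hom)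
  haveI : Module.Flat (Y.presheaf.stalk (f x)) (F.presheaf.stalk x) := hfl x
  haveI := nontrivial_of_assFibre f F x hA
  haveI := AssLib.nontrivial_of_isAssPoint hy
  haveI := @SupportLib.finite_stalk _ F hF.1 hF.2 x
  haveI := @SupportLib.finite_stalk _ E hE.1 hE.2 (f x)
  rw [← (singleEquiv f E F x).length_eq]
  exact length_tensor_eq_one_iff (R := Y.presheaf.stalk (f x)) (S := X.presheaf.stalk x) _ _

end Groth.Agent.AssTensor
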