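import Groth.Agent.AssTensor.Sch
import Groth.Agent.AssTensor.Fields

/-!
`Spec κ(x) ×_S Spec κ(y)` has no embedded associated points; consequences for `F ⊗_S G`.
-/

set_option autoImplicit false
set_option linter.style.haveILetI false
set_option backward.isDefEq.respectTransparency false

universe u

open CategoryTheory CategoryTheory.Limits AlgebraicGeometry IsLocalRing TensorProduct

namespace Groth.Agent.AssTensor

variable {X Y S : Scheme.{u}}

theorem isAssPoint_struct_iff_of_isIso {T T' : Scheme.{u}} (e : T ⟶ T') [IsIso e] (t : T) :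
    Curv2.IsAssPoint (Coh.structureModule T) t ↔ Curv2.IsAssPoint (Coh.structureModule T') (e t) := by
  rw [AssLib.ass_struct_iff, AssLib.ass_struct_iff]
  have hb : Function.Bijective (e.stalkMap t).hom := ConcreteCategory.bijective_of_isIso _
  rw [isAss_iff_quotient_of_surjective _ hb.2 ((RingHom.injective_iff_ker_eq_bot _).1 hb.1)]
  exact LinearEquiv.isAssociatedPrime_iff (Submodule.quotEquivOfEqBot _ rfl)

/-- `Spec κ(x) ×_S Spec κ(y)` has no embedded associated points. -/
theorem eq_of_specializes_of_ass_pair (f : X ⟶ S) (g : Y ⟶ S) (x : X) (y : Y)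
    {t' t : ↑(pullback (X.fromSpecResidueField x ≫ f) (Y.fromSpecResidueField y ≫ g))}
    (ht : Curv2.IsAssPoint (Coh.structureModule _) t) (hsp : t' ⤳ t) : t' = t := by
  have h : f x = g y := by
    obtain ⟨h1, h2⟩ := pairMap_proj f g x y t
    have h3 := congrArg (fun m => m (pairMap f g x y t)) (pullback.condition (f := f) (g := g))
    simp only [Scheme.Hom.comp_apply, h1, h2] at h3
    exact h3
  let ra : S.residueField (f x) ⟶ X.residueField x := f.residueFieldMap x
  let rb : S.residueField (f x) ⟶ Y.residueField y := (S.residueFieldCongr h).hom ≫ g.residueFieldMap y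
  have hfa : X.fromSpecResidueField x ≫ f = Spec.map ra ≫ S.fromSpecResidueField (f x) :=
    (f.SpecMap_residueFieldMap_fromSpecResidueField x).symm
  have hgb : Y.fromSpecResidueField y ≫ g = Spec.map rb ≫ S.fromSpecResidueField (f x) := by
    rw [Spec.map_comp, Category.assoc, Scheme.residueFieldCongr_fromSpecResidueField,
      Scheme.Hom.SpecMap_residueFieldMap_fromSpecResidueField]
  letI : Algebra (S.residueField (f x)) (X.residueField x) := ra.hom.toAlgebra
  letI : Algebra (S.residueField (f x)) (Y.residueField y) := rb.hom.toAlgebra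
  let e : pullback (X.fromSpecResidueField x ≫ f) (Y.fromSpecResidueField y ≫ g) ≅
      Spec (CommRingCat.of (X.residueField x ⊗[S.residueField (f x)] Y.residueField y)) :=
    pullback.congrHom hfa hgb ≪≫
      (limit.isLimit _).conePointUniqueUpToIso (pullbackIsPullbackOfCompMono (Spec.map ra) (Spec.map rb) _) ≪≫
      pullbackSpecIso (S.residueField (f x)) (X.residueField x) (Y.residueField y)
  have h1 := (AssLib.ass_struct_iff _).1 ((isAssPoint_struct_iff_of_isIso e.hom t).1 ht)
  have hle : (e.hom t').asIdeal ≤ (e.hom t).asIdeal :=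
    (PrimeSpectrum.le_iff_specializes _ _).2 (hsp.map e.hom.continuous)
  letI k : Algebra (X.residueField x ⊗[S.residueField (f x)] Y.residueField y)
      ((Spec (CommRingCat.of (X.residueField x ⊗[S.residueField (f x)] Y.residueField y))).presheaf.stalk (e.hom t)) :=
    StructureSheaf.stalkAlgebra _ _
  haveI : IsLocalization.AtPrime
      ((Spec (CommRingCat.of (X.residueField x ⊗[S.residueField (f x)] Y.residueField y))).presheaf.stalk (e.hom t))
      (e.hom t).asIdeal := StructureSheaf.IsLocalization.to_stalk _ _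
  have h2 : e.hom t' = e.hom t := PrimeSpectrum.ext
    (eq_of_le_of_isAss_tensor_fields
      (O := (Spec (CommRingCat.of (X.residueField x ⊗[S.residueField (f x)] Y.residueField y))).presheaf.stalk (e.hom t))
      (e.hom t).asIdeal h1 (e.hom t').asIdeal hle)
  exact e.hom.isEmbedding.injective h2

theorem specializes_proj (f : X ⟶ S) (g : Y ⟶ S) {z' z : ↑(pullback f g)} (h : z' ⤳ z) :
    pullback.fst f g z' ⤳ pullback.fst f g z ∧ pullback.snd f g z' ⤳ pullback.snd f g z :=
  ⟨h.map (pullback.fst f g).continuous, h.map (pullback.snd f g).continuous⟩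

/-- Two related points of the same pair, the special one associated, coincide. -/
theorem eq_of_assPt (f : X ⟶ S) (g : Y ⟶ S) {z' z : ↑(pullback f g)} (h : z' ⤳ z) (hz : AssPt f g z)
    (hx : pullback.fst f g z' = pullback.fst f g z) (hy : pullback.snd f g z' = pullback.snd f g z) : z' = z := by
  obtain ⟨t, ht, hte⟩ := (mem_image_ass_pairMap_iff f g _ _ z).2 ⟨rfl, rfl, hz⟩
  obtain ⟨t', ht', -⟩ := exists_pairMap_ker f g z'
  have hex : ∀ (x : X) (y : Y), x = pullback.fst f g z' → y = pullback.snd f g z' →
      ∃ t', pairMap f g x y t' = z' := by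
    rintro _ _ rfl rfl
    exact ⟨t', ht'⟩
  obtain ⟨w, hw⟩ := hex _ _ hx.symm hy.symm
  let P := pairMap f g (pullback.fst f g z) (pullback.snd f g z)
  have h' : P w ⤳ P t := by
    show pairMap f g _ _ w ⤳ pairMap f g _ _ t
    rwa [hw, hte]
  have heq : w = t := eq_of_specializes_of_ass_pair f g _ _ ht (P.isEmbedding.isInducing.specializes_iff.1 h')
  exact (hw.symm.trans (congrArg P heq)).trans hte

theorem mem_ass_iff_assFibre (g : Y ⟶ S) [IsLocallyNoetherian S] (G : Y.Modules) (hGfl : FlatMod.IsFlatOver g G)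
    (y : Y) : Curv2.IsAssPoint G y ↔ Curv2.IsAssPoint (Coh.structureModule S) (g y) ∧ AssFibre g G y := by
  letI := (g.stalkMap y).hom.toAlgebra
  letI := FlatMod.moduleStalkOver g G y
  haveI : IsScalarTower (S.presheaf.stalk (g y)) (Y.presheaf.stalk y) (G.presheaf.stalk y) :=
    IsScalarTower.of_algebraMap_smul fun _ _ => rfl
  haveI : IsLocalHom (algebraMap (S.presheaf.stalk (g y)) (Y.presheaf.stalk y)) :=
    inferInstanceAs (IsLocalHom (g.stalkMap y).hom)
  haveI : Module.Flat (S.presheaf.stalk (g y)) (G.presheaf.stalk y) := hGfl y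
  rw [AssLib.ass_struct_iff, Curv2.IsAssPoint]
  exact isAss_of_flat_iff (R := S.presheaf.stalk (g y)) (G.presheaf.stalk y)

theorem assFibre_iff_exists (g : Y ⟶ S) (G : Y.Modules) (y : Y) {s : S} (h : g y = s) :
    AssFibre g G y ↔ ∃ w : g.fiber s,
      g.fiberι s w = y ∧ Curv2.IsAssPoint ((Scheme.Modules.pullback (g.fiberι s)).obj G) w := by
  constructor
  · intro hy
    obtain ⟨w, hw⟩ := (g.range_fiberι s).ge h
    refine ⟨w, hw, ?_⟩
    rw [isAssPoint_fibre_iff, hw]
    exact hy
  · rintro ⟨w, rfl, hw⟩
    exact (isAssPoint_fibre_iff g G s w).1 hw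

end Groth.Agent.AssTensor
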