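import Groth.Agent.AssTensor.Pair
import Groth.Agent.AssTensor.Length
import Groth.Agent.FBaseLen.Basic
import Groth.Agent.Nakai.AlgEquiv
import Groth.Agent.FlatFunLib.RelAssBCIff
import Groth.Agent.DerPerf.Local
import Groth.Agent.GeomProp.SchemeReduced
import Groth.Prelude.Def_SecTwist

/-!
# Reduced modules and extension of the base field
-/

set_option autoImplicit false
set_option linter.style.haveILetI false
set_option backward.isDefEq.respectTransparency false

universe u

open CategoryTheory CategoryTheory.Limits AlgebraicGeometry IsLocalRing TensorProduct Groth.Agent.QC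
  Groth.Agent.WeakAssLib

namespace Groth.Agent.AssTensor

theorem length_tensor_of_length_one {A B C : Type u} [CommRing A] [CommRing B] [CommRing C] [IsLocalRing A]
    [IsLocalRing B] [Algebra A C] [Algebra B C] (M N : Type u) [AddCommGroup M] [Module A M] [AddCommGroup N]
    [Module B N] (hM : Module.length A M = 1) (hN : Module.length B N = 1) :
    Module.length C ((C ⊗[A] M) ⊗[C] (C ⊗[B] N)) =
      Module.length C (C ⧸ ((maximalIdeal A).map (algebraMap A C) ⊔ (maximalIdeal B).map (algebraMap B C))) := by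
  obtain ⟨I, hI, ⟨eM⟩⟩ := isSimpleModule_iff_quot_maximal.1 (Module.length_eq_one_iff.1 hM)
  obtain rfl := IsLocalRing.eq_maximalIdeal hI
  obtain ⟨J, hJ, ⟨eN⟩⟩ := isSimpleModule_iff_quot_maximal.1 (Module.length_eq_one_iff.1 hN)
  obtain rfl := IsLocalRing.eq_maximalIdeal hJ
  set I := (maximalIdeal A).map (algebraMap A C)
  set J := (maximalIdeal B).map (algebraMap B C)
  let e1 : C ⊗[A] M ≃ₗ[C] C ⧸ I :=
    (TensorProduct.AlgebraTensorModule.congr (LinearEquiv.refl C C) eM).trans
      (Algebra.TensorProduct.quotIdealMapEquivTensorQuot C (maximalIdeal A)).symm.toLinearEquiv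
  let e2 : C ⊗[B] N ≃ₗ[C] C ⧸ J :=
    (TensorProduct.AlgebraTensorModule.congr (LinearEquiv.refl C C) eN).trans
      (Algebra.TensorProduct.quotIdealMapEquivTensorQuot C (maximalIdeal B)).symm.toLinearEquiv
  have h3 : I • (⊤ : Submodule C (C ⧸ J)) = Submodule.map (Submodule.mkQ J) I := by
    rw [← Submodule.range_mkQ, ← Submodule.map_top, ← Submodule.map_smul'', Ideal.smul_eq_mul, Ideal.mul_top]
  exact ((TensorProduct.congr e1 e2).trans ((TensorProduct.quotTensorEquivQuotSMul (C ⧸ J) I).trans
    ((Submodule.quotEquivOfEq _ _ h3).trans ((Submodule.quotientQuotientEquivQuotientSup J I).trans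
      (Submodule.quotEquivOfEq _ _ (sup_comm J I)))))).length_eq

variable {X Y S T : Scheme.{u}}

theorem length_point (f : X ⟶ S) (g : Y ⟶ S) (F : X.Modules) (G : Y.Modules) (v : ↑(pullback f g))
    (hx : Module.length (X.presheaf.stalk (pullback.fst f g v)) (F.presheaf.stalk (pullback.fst f g v)) = 1)
    (hy : Module.length (Y.presheaf.stalk (pullback.snd f g v)) (G.presheaf.stalk (pullback.snd f g v)) = 1) :
    Module.length ((pullback f g).presheaf.stalk v)
        ((CohB1.tensorMod ((Scheme.Modules.pullback (pullback.fst f g)).obj F)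
          ((Scheme.Modules.pullback (pullback.snd f g)).obj G)).presheaf.stalk v) =
      Module.length ((pullback f g).presheaf.stalk v) ((pullback f g).presheaf.stalk v ⧸
        ((maximalIdeal (X.presheaf.stalk (pullback.fst f g v))).map ((pullback.fst f g).stalkMap v).hom ⊔
          (maximalIdeal (Y.presheaf.stalk (pullback.snd f g v))).map ((pullback.snd f g).stalkMap v).hom)) := by
  letI := ((pullback.fst f g).stalkMap v).hom.toAlgebra
  letI := ((pullback.snd f g).stalkMap v).hom.toAlgebra
  rw [← (tensorEquiv _ _ v).length_eq, ← LinearEquiv.length_eq (R := (pullback f g).presheaf.stalk v)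
    (M := ((pullback f g).presheaf.stalk v ⊗[X.presheaf.stalk (pullback.fst f g v)]
        F.presheaf.stalk (pullback.fst f g v)) ⊗[(pullback f g).presheaf.stalk v]
      ((pullback f g).presheaf.stalk v ⊗[Y.presheaf.stalk (pullback.snd f g v)]
        G.presheaf.stalk (pullback.snd f g v)))
    (TensorProduct.congr (pullEquiv (pullback.fst f g) F v) (pullEquiv (pullback.snd f g) G v))]
  exact length_tensor_of_length_one _ _ hx hy

theorem length_pair (f : X ⟶ S) (g : Y ⟶ S) (F : X.Modules) (G : Y.Modules) (x : X) (y : Y)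
    (hx : Module.length (X.presheaf.stalk x) (F.presheaf.stalk x) = 1)
    (hy : Module.length (Y.presheaf.stalk y) (G.presheaf.stalk y) = 1)
    (t : ↑(pullback (X.fromSpecResidueField x ≫ f) (Y.fromSpecResidueField y ≫ g))) :
    Module.length ((pullback f g).presheaf.stalk (pairMap f g x y t))
        ((CohB1.tensorMod ((Scheme.Modules.pullback (pullback.fst f g)).obj F)
          ((Scheme.Modules.pullback (pullback.snd f g)).obj G)).presheaf.stalk (pairMap f g x y t)) =
      Module.length ((pullback (X.fromSpecResidueField x ≫ f) (Y.fromSpecResidueField y ≫ g)).presheaf.stalk t)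
        ((pullback (X.fromSpecResidueField x ≫ f) (Y.fromSpecResidueField y ≫ g)).presheaf.stalk t) := by
  obtain ⟨w, hw⟩ : ∃ w, w = pairMap f g x y t := ⟨_, rfl⟩
  obtain ⟨h1, h2⟩ := pairMap_proj f g x y t
  rw [← hw] at h1 h2 ⊢
  subst h1 h2
  obtain ⟨t', ht', hker⟩ := exists_pairMap_ker f g w
  obtain rfl : t' = t := (pairMap f g _ _).isEmbedding.injective (ht'.trans hw)
  refine ((congrArg (fun v => Module.length ((pullback f g).presheaf.stalk v)
    ((CohB1.tensorMod ((Scheme.Modules.pullback (pullback.fst f g)).obj F)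
      ((Scheme.Modules.pullback (pullback.snd f g)).obj G)).presheaf.stalk v)) hw)).trans ?_
  refine (length_point f g F G _ (by rw [ht']; exact hx) (by rw [ht']; exact hy)).trans ?_
  rw [FBaseLen.length_of_quotient _ ((pairMap f g _ _).stalkMap_surjective t')]
  exact ((Submodule.quotEquivOfEq _ _ (Ideal.ext fun c => (RingHom.mem_ker).trans (hker c))).length_eq).symm

theorem isField_of_ass {O : Type u} [CommRing O] [IsLocalRing O] [_root_.IsReduced O]
    (h : IsAssociatedPrime (maximalIdeal O) O) : maximalIdeal O = ⊥ := by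
  obtain ⟨-, a, ha⟩ := h
  have hmem : ∀ b, b ∈ maximalIdeal O ↔ ∃ n : ℕ, b ^ n * a = 0 := fun b => by
    rw [ha, Ideal.mem_radical_iff]
    simp [Submodule.mem_colon_singleton]
  refine le_bot_iff.1 fun b hb => ?_
  have hau : IsUnit a := by
    by_contra hau
    obtain ⟨n, hn⟩ := (hmem a).1 hau
    have ha0 : a = 0 := IsNilpotent.eq_zero ⟨n + 1, by rw [pow_succ]; exact hn⟩
    obtain ⟨m, hm⟩ : ∃ m : ℕ, (1 : O) ^ m * a = 0 := ⟨0, by simp [ha0]⟩
    exact (IsLocalRing.maximalIdeal.isMaximal O).ne_top ((Ideal.eq_top_iff_one _).2 ((hmem 1).2 ⟨m, hm⟩))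
  obtain ⟨n, hn⟩ := (hmem b).1 hb
  exact IsNilpotent.eq_zero ⟨n, hau.mul_left_eq_zero.1 hn⟩

theorem length_eq_one_of_ass {P : Scheme.{u}} [AlgebraicGeometry.IsReduced P] {t : P}
    (h : Curv2.IsAssPoint (Coh.structureModule P) t) :
    Module.length (P.presheaf.stalk t) (P.presheaf.stalk t) = 1 := by
  have hm := isField_of_ass ((AssLib.ass_struct_iff t).1 h)
  rw [Module.length_eq_one_iff, isSimpleModule_iff_quot_maximal]
  exact ⟨maximalIdeal _, IsLocalRing.maximalIdeal.isMaximal _,
    ⟨(Submodule.quotEquivOfEqBot _ hm).symm⟩⟩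

theorem isReduced_of_length {P : Scheme.{u}}
    (h : ∀ t : P, Curv2.IsAssPoint (Coh.structureModule P) t →
      Module.length (P.presheaf.stalk t) (P.presheaf.stalk t) = 1) : AlgebraicGeometry.IsReduced P := by
  refine ⟨fun U => ⟨fun s hs => ?_⟩⟩
  refine eq_zero_of_forall (F := Coh.structureModule P) (isQCoh_unit P) s fun y hy hw => ?_
  have h1 := Module.length_eq_one_iff.1 (h y ((isAssPoint_iff _ y).2 hw))
  obtain ⟨I, hI, ⟨e⟩⟩ := isSimpleModule_iff_quot_maximal.1 h1
  obtain rfl := IsLocalRing.eq_maximalIdeal hI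
  have h2 : maximalIdeal (P.presheaf.stalk y) = ⊥ := by
    refine le_bot_iff.1 fun a ha => ?_
    have h3 : a • (1 : P.presheaf.stalk y) = 0 := e.injective (by
      rw [map_smul, map_zero]
      obtain ⟨c, hc⟩ := Ideal.Quotient.mk_surjective (e 1)
      rw [← hc]
      exact Ideal.Quotient.eq_zero_iff_mem.2 (Ideal.mul_mem_right _ _ ha))
    rwa [smul_eq_mul, mul_one] at h3
  have h4 : (P.presheaf.germ U y hy).hom s = 0 := by
    have : (P.presheaf.germ U y hy).hom s ∈ maximalIdeal (P.presheaf.stalk y) := fun hu =>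
      not_isUnit_zero (M₀ := P.presheaf.stalk y) (by
        obtain ⟨n, hn⟩ := hs.map (P.presheaf.germ U y hy).hom
        exact hn ▸ hu.pow n)
    rw [h2] at this
    exact this
  obtain ⟨W, hyW, i, i', he⟩ :=
    TopCat.Presheaf.germ_eq P.presheaf y hy hy s 0 (h4.trans (map_zero _).symm)
  rw [← mgerm_res (Coh.structureModule P) i.le hyW s]
  have h5 : res (Coh.structureModule P) i.le s = 0 := he.trans (map_zero _)
  rw [h5, map_zero]

theorem length_stalk_of_iso {G H : T.Modules} (e : G ≅ H) (t : T) :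
    Module.length (T.presheaf.stalk t) (G.presheaf.stalk t) = Module.length (T.presheaf.stalk t) (H.presheaf.stalk t) := by
  haveI : IsIso e.hom.mapPresheaf := inferInstanceAs (IsIso ((Scheme.Modules.toPresheaf T).map e.hom))
  have hb : Function.Bijective (stalkHom e.hom t) :=
    ConcreteCategory.bijective_of_isIso ((TopCat.Presheaf.stalkFunctor AddCommGrpCat.{u} t).map e.hom.mapPresheaf)
  exact (LinearEquiv.ofBijective
      { toFun := stalkHom e.hom t
        map_add' := map_add _
        map_smul' := fun r m => stalkHom_smul e.hom t r m } hb).length_eq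

theorem isReducedMod_of_iso {G H : T.Modules} (e : G ≅ H) (h : AssSch.IsReducedMod G) : AssSch.IsReducedMod H :=
  ⟨fun x hx y hy hsp => h.1 x ((FlatFunLib.isAssPoint_iff_of_iso e x).2 hx) y
      ((FlatFunLib.isAssPoint_iff_of_iso e y).2 hy) hsp,
    fun x hx => (length_stalk_of_iso e x).symm.trans (h.2 x ((FlatFunLib.isAssPoint_iff_of_iso e x).2 hx))⟩

theorem isReducedMod_of_pullback_iso (e : T ⟶ X) [IsIso e] (F : X.Modules)
    (h : AssSch.IsReducedMod ((Scheme.Modules.pullback e).obj F)) : AssSch.IsReducedMod F := by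
  have key : ∀ t : T, (Curv2.IsAssPoint F (e t) ↔ Curv2.IsAssPoint ((Scheme.Modules.pullback e).obj F) t) ∧
      Module.length (X.presheaf.stalk (e t)) (F.presheaf.stalk (e t)) =
        Module.length (T.presheaf.stalk t) (((Scheme.Modules.pullback e).obj F).presheaf.stalk t) := fun t => by
    have hb : Function.Bijective (e.stalkMap t).hom := ConcreteCategory.bijective_of_isIso _
    have hk : RingHom.ker (e.stalkMap t).hom • (⊤ : Submodule (X.presheaf.stalk (e t)) (F.presheaf.stalk (e t))) = ⊥ := by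
      rw [(RingHom.injective_iff_ker_eq_bot _).1 hb.1, Submodule.bot_smul]
    rw [isAssPoint_pullback_of_surjective e F t hb.2, length_pullback_of_surjective e F t hb.2]
    exact ⟨(LinearEquiv.isAssociatedPrime_iff (Submodule.quotEquivOfEqBot _ hk)).symm,
      (Submodule.quotEquivOfEqBot _ hk).length_eq.symm⟩
  refine ⟨fun a ha b hb hsp => ?_, fun a ha => ?_⟩
  · obtain ⟨a', rfl⟩ := e.surjective a
    obtain ⟨b', rfl⟩ := e.surjective b
    exact congrArg e (h.1 a' ((key a').1.1 ha) b' ((key b').1.1 hb) (e.isEmbedding.isInducing.specializes_iff.1 hsp))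
  · obtain ⟨a', rfl⟩ := e.surjective a
    exact (key a').2.trans (h.2 a' ((key a').1.1 ha))

variable {k : Type u} [Field k]

theorem assFibre_iff_of_field (g : Y ⟶ Spec (CommRingCat.of k)) (G : Y.Modules) (y : Y) :
    (FlatMod.IsFlatOver g G) ∧ (AssFibre g G y ↔ Curv2.IsAssPoint G y) := by
  letI : Y.Over (Spec (CommRingCat.of k)) := ⟨g⟩
  have hfl : FlatMod.IsFlatOver g G := Nakai.isFlatOver_field k G
  refine ⟨hfl, (Iff.trans ?_ (mem_ass_iff_assFibre g G hfl y).symm)⟩
  refine (and_iff_right ?_).symm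
  obtain ⟨z, -, hz⟩ := AssLib.exists_ass_specializes (M := Coh.structureModule (Spec (CommRingCat.of k)))
    (isQCoh_unit _) (AssLib.nontrivial_struct (g y))
  exact (Subsingleton.elim (α := PrimeSpectrum k) z (g y)) ▸ hz

variable [IsLocallyNoetherian X] [IsLocallyNoetherian Y] (f : X ⟶ Spec (CommRingCat.of k))
  (g : Y ⟶ Spec (CommRingCat.of k)) {F : X.Modules} {G : Y.Modules}

theorem isReducedMod_tensor (hF : AssSch.IsReducedMod F) (hG : AssSch.IsReducedMod G)
    (hP : ∀ x ∈ AssSch.Ass F, ∀ y ∈ AssSch.Ass G,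
      AlgebraicGeometry.IsReduced (pullback (X.fromSpecResidueField x ≫ f) (Y.fromSpecResidueField y ≫ g))) :
    AssSch.IsReducedMod (CohB1.tensorMod ((Scheme.Modules.pullback (pullback.fst f g)).obj F)
      ((Scheme.Modules.pullback (pullback.snd f g)).obj G)) := by
  have hmem : ∀ z, z ∈ AssSch.Ass (CohB1.tensorMod ((Scheme.Modules.pullback (pullback.fst f g)).obj F)
      ((Scheme.Modules.pullback (pullback.snd f g)).obj G)) →
      pullback.fst f g z ∈ AssSch.Ass F ∧ pullback.snd f g z ∈ AssSch.Ass G ∧ AssPt f g z := fun z hz => by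
    obtain ⟨h1, h2, h3⟩ := (mem_ass_tensor_iff f g F G
      (fun y => (assFibre_iff_of_field g G y).1 y) z).1 hz
    exact ⟨h1, (assFibre_iff_of_field g G _).2.1 h2, h3⟩
  refine ⟨fun z hz z' hz' hsp => ?_, fun z hz => ?_⟩
  · obtain ⟨hx, hy, hp⟩ := hmem z hz
    obtain ⟨hx', hy', -⟩ := hmem z' hz'
    obtain ⟨h1, h2⟩ := specializes_proj f g hsp
    exact (eq_of_assPt f g hsp hp (hF.1 _ hx _ hx' h1).symm (hG.1 _ hy _ hy' h2).symm).symm
  · obtain ⟨hx, hy, hp⟩ := hmem z hz
    obtain ⟨t, ht, htz⟩ := (mem_image_ass_pairMap_iff f g _ _ z).2 ⟨rfl, rfl, hp⟩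
    haveI := hP _ hx _ hy
    have h := length_pair f g F G _ _ (hF.2 _ hx) (hG.2 _ hy) t
    rw [htz] at h
    exact h.trans (length_eq_one_of_ass ht)

theorem isReduced_pair_of_isReducedMod (hF : AssSch.IsReducedMod F) (hG : AssSch.IsReducedMod G)
    (h : AssSch.IsReducedMod (CohB1.tensorMod ((Scheme.Modules.pullback (pullback.fst f g)).obj F)
      ((Scheme.Modules.pullback (pullback.snd f g)).obj G)))
    (x : X) (hx : x ∈ AssSch.Ass F) (y : Y) (hy : y ∈ AssSch.Ass G) :
    AlgebraicGeometry.IsReduced (pullback (X.fromSpecResidueField x ≫ f) (Y.fromSpecResidueField y ≫ g)) := by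
  refine isReduced_of_length fun t ht => ?_
  obtain ⟨h1, h2, h3⟩ := (mem_image_ass_pairMap_iff f g x y (pairMap f g x y t)).1 ⟨t, ht, rfl⟩
  have hz : pairMap f g x y t ∈ AssSch.Ass (CohB1.tensorMod ((Scheme.Modules.pullback (pullback.fst f g)).obj F)
      ((Scheme.Modules.pullback (pullback.snd f g)).obj G)) := by
    refine (mem_ass_tensor_iff f g F G (fun y => (assFibre_iff_of_field g G y).1 y) _).2
      ⟨by rw [h1]; exact hx, ?_, h3⟩
    rw [h2]
    exact (assFibre_iff_of_field g G y).2.2 hy
  exact (length_pair f g F G x y (hF.2 x hx) (hG.2 y hy) t).symm.trans (h.2 _ hz)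

end Groth.Agent.AssTensor
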