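import Groth.Agent.AssTensor.Alg
import Groth.Agent.KFlat.Pullback
import Groth.Agent.DQCoh.BCStalk
import Groth.Agent.FibCrit.Stalk
import Groth.Agent.AssLib.Points

/-!
Associated points of `F ⊗ G` on a fibre product.
-/

set_option autoImplicit false
set_option linter.style.haveILetI false
set_option backward.isDefEq.respectTransparency false

universe u

open CategoryTheory CategoryTheory.Limits AlgebraicGeometry IsLocalRing TensorProduct Groth.Agent.KFlat
open Groth.Agent.DQCoh

namespace Groth.Agent.AssTensor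

variable {X Y S : Scheme.{u}}

/-- The stalk of a pullback, as a base change. -/
noncomputable def pullEquiv (f : X ⟶ Y) (M : Y.Modules) (x : X) :
    letI := (f.stalkMap x).hom.toAlgebra
    (X.presheaf.stalk x ⊗[Y.presheaf.stalk (f x)] M.presheaf.stalk (f x)) ≃ₗ[X.presheaf.stalk x]
      ((Scheme.Modules.pullback f).obj M).presheaf.stalk x :=
  ((pullStalkIso f x).app M).symm.toLinearEquiv

/-- The stalk of a tensor product. -/
noncomputable def tensorEquiv (M N : X.Modules) (x : X) :
    M.presheaf.stalk x ⊗[X.presheaf.stalk x] N.presheaf.stalk x ≃ₗ[X.presheaf.stalk x]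
      (CohB1.tensorMod M N).presheaf.stalk x :=
  (stTensorIso M N x).toLinearEquiv

/-- The fibre of `M` at `x` over the base, as a module over `O_x`. -/
def AssFibre (f : X ⟶ Y) (M : X.Modules) (x : X) : Prop :=
  IsAssociatedPrime (maximalIdeal (X.presheaf.stalk x))
    (M.presheaf.stalk x ⧸ (maximalIdeal (Y.presheaf.stalk (f x))).map (f.stalkMap x).hom •
      (⊤ : Submodule (X.presheaf.stalk x) (M.presheaf.stalk x)))

theorem isAss_iff_quotient_of_surjective {C C' : Type u} [CommRing C] [CommRing C'] [IsLocalRing C] [IsLocalRing C']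
    (φ : C →+* C') (hs : Function.Surjective φ) {K : Ideal C} (hK : RingHom.ker φ = K) :
    IsAssociatedPrime (maximalIdeal C') C' ↔ IsAssociatedPrime (maximalIdeal C) (C ⧸ K) := by
  letI := φ.toAlgebra
  subst hK
  rw [isAss_maximalIdeal_iff_of_surjective (C := C) hs]
  exact LinearEquiv.isAssociatedPrime_iff
    (Ideal.quotientKerAlgEquivOfSurjective (f := Algebra.ofId C C') hs).symm.toLinearEquiv

theorem isAssPoint_pullback_of_surjective (f : X ⟶ Y) (M : Y.Modules) (x : X)
    (hs : Function.Surjective (f.stalkMap x).hom) :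
    Curv2.IsAssPoint ((Scheme.Modules.pullback f).obj M) x ↔
      IsAssociatedPrime (maximalIdeal (Y.presheaf.stalk (f x)))
        (M.presheaf.stalk (f x) ⧸ RingHom.ker (f.stalkMap x).hom •
          (⊤ : Submodule (Y.presheaf.stalk (f x)) (M.presheaf.stalk (f x)))) := by
  letI := (f.stalkMap x).hom.toAlgebra
  rw [Curv2.IsAssPoint, ← LinearEquiv.isAssociatedPrime_iff (pullEquiv f M x),
    isAss_maximalIdeal_iff_of_surjective (C := Y.presheaf.stalk (f x)) hs]
  let e0 : (Y.presheaf.stalk (f x) ⧸ RingHom.ker (f.stalkMap x).hom) ≃ₗ[Y.presheaf.stalk (f x)] X.presheaf.stalk x :=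
    LinearEquiv.ofBijective
      { toFun := RingHom.kerLift (f.stalkMap x).hom
        map_add' := map_add _
        map_smul' := fun r z => by
          obtain ⟨z, rfl⟩ := Ideal.Quotient.mk_surjective z
          exact map_mul (f.stalkMap x).hom r z }
      ⟨RingHom.kerLift_injective _, fun z => by
        obtain ⟨r, rfl⟩ := hs z
        exact ⟨Ideal.Quotient.mk _ r, rfl⟩⟩
  exact LinearEquiv.isAssociatedPrime_iff
    ((LinearEquiv.rTensor _ e0.symm).trans (TensorProduct.quotTensorEquivQuotSMul _ _))

theorem isAssPoint_fibre_iff (g : Y ⟶ S) (G : Y.Modules) (s : S) (w : g.fiber s) :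
    Curv2.IsAssPoint ((Scheme.Modules.pullback (g.fiberι s)).obj G) w ↔ AssFibre g G (g.fiberι s w) := by
  rw [isAssPoint_pullback_of_surjective _ _ _ (FibCrit.fiberι_stalkMap g s w).1, (FibCrit.fiberι_stalkMap g s w).2]
  rfl

/-- The intersection of the fibres over `fst z` and `snd z`, at `z`. -/
def AssPt (f : X ⟶ S) (g : Y ⟶ S) (z : ↑(pullback f g)) : Prop :=
  IsAssociatedPrime (maximalIdeal ((pullback f g).presheaf.stalk z))
    ((pullback f g).presheaf.stalk z ⧸
      (maximalIdeal (X.presheaf.stalk (pullback.fst f g z))).map ((pullback.fst f g).stalkMap z).hom ⊔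
      (maximalIdeal (Y.presheaf.stalk (pullback.snd f g z))).map ((pullback.snd f g).stalkMap z).hom)

theorem stalkMap_eq_zero_of_fac {T : Scheme.{u}} {x : X} (π : T ⟶ Spec (X.residueField x)) {h : T ⟶ X}
    (hh : h = π ≫ X.fromSpecResidueField x) (t : T) :
    ∀ m ∈ maximalIdeal (X.presheaf.stalk (h t)), h.stalkMap t m = 0 := by
  subst hh
  intro m hm
  rw [Scheme.Hom.stalkMap_comp]
  change π.stalkMap t ((X.fromSpecResidueField x).stalkMap _ m) = 0
  refine (congrArg _ ?_).trans (map_zero _)
  by_contra h0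
  have hfield : ∀ (p : ↥(Spec (X.residueField x))) (v : (Spec (X.residueField x)).presheaf.stalk p),
      v ≠ 0 → IsUnit v := by
    intro p v hv
    obtain rfl : p = closedPoint (X.residueField x) := Subsingleton.elim (α := PrimeSpectrum _) _ _
    let e := (stalkClosedPointIso (X.residueField x)).commRingCatIsoToRingEquiv
    have := (Ne.isUnit (show e v ≠ 0 from fun h => hv (e.injective (h.trans (map_zero e).symm)))).map e.symm
    rwa [e.symm_apply_apply] at this
  haveI hloc : ∀ z, IsLocalHom ((X.fromSpecResidueField x).stalkMap z).hom := inferInstance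
  exact hm (@isUnit_of_map_unit _ _ _ _ _ _ ((X.fromSpecResidueField x).stalkMap _).hom (hloc _) m (hfield _ _ h0))

/-- `Spec κ(x) ×_S Spec κ(y) → X ×_S Y`. -/
noncomputable abbrev pairMap (f : X ⟶ S) (g : Y ⟶ S) (x : X) (y : Y) :
    pullback (X.fromSpecResidueField x ≫ f) (Y.fromSpecResidueField y ≫ g) ⟶ pullback f g :=
  pullback.map (X.fromSpecResidueField x ≫ f) (Y.fromSpecResidueField y ≫ g) f g (X.fromSpecResidueField x)
    (Y.fromSpecResidueField y) (𝟙 S) (Category.comp_id _) (Category.comp_id _)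

instance isPreimmersion_pairMap (f : X ⟶ S) (g : Y ⟶ S) (x : X) (y : Y) : IsPreimmersion (pairMap f g x y) :=
  MorphismProperty.pullbackMap (P := @IsPreimmersion) inferInstance inferInstance rfl rfl

theorem pairMap_proj (f : X ⟶ S) (g : Y ⟶ S) (x : X) (y : Y)
    (t : ↑(pullback (X.fromSpecResidueField x ≫ f) (Y.fromSpecResidueField y ≫ g))) :
    pullback.fst f g (pairMap f g x y t) = x ∧ pullback.snd f g (pairMap f g x y t) = y := by
  rw [← Scheme.Hom.comp_apply, ← Scheme.Hom.comp_apply, pullback.lift_fst, pullback.lift_snd, Scheme.Hom.comp_apply,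
    Scheme.Hom.comp_apply, Scheme.fromSpecResidueField_apply, Scheme.fromSpecResidueField_apply]
  exact ⟨rfl, rfl⟩

theorem exists_pairMap_ker (f : X ⟶ S) (g : Y ⟶ S) (z : ↑(pullback f g)) :
    ∃ t, pairMap f g (pullback.fst f g z) (pullback.snd f g z) t = z ∧
      ∀ c, (pairMap f g (pullback.fst f g z) (pullback.snd f g z)).stalkMap t c = 0 ↔
        c ∈ (maximalIdeal (X.presheaf.stalk (pullback.fst f g
            (pairMap f g (pullback.fst f g z) (pullback.snd f g z) t)))).map
            ((pullback.fst f g).stalkMap _).hom ⊔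
          (maximalIdeal (Y.presheaf.stalk (pullback.snd f g
            (pairMap f g (pullback.fst f g z) (pullback.snd f g z) t)))).map
            ((pullback.snd f g).stalkMap _).hom := by
  set x := pullback.fst f g z with hx
  set y := pullback.snd f g z with hy
  let j := pairMap f g x y
  let C := (pullback f g).presheaf.stalk z
  let K : Ideal C := (maximalIdeal (X.presheaf.stalk (pullback.fst f g z))).map ((pullback.fst f g).stalkMap z).hom ⊔
    (maximalIdeal (Y.presheaf.stalk (pullback.snd f g z))).map ((pullback.snd f g).stalkMap z).hom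
  have hle : K ≤ maximalIdeal C := sup_le
    (Ideal.map_le_iff_le_comap.2 fun a ha => map_nonunit ((pullback.fst f g).stalkMap z).hom a ha)
    (Ideal.map_le_iff_le_comap.2 fun a ha => map_nonunit ((pullback.snd f g).stalkMap z).hom a ha)
  haveI : Nontrivial (C ⧸ K) :=
    Ideal.Quotient.nontrivial_iff.2 (ne_top_of_le_ne_top (maximalIdeal.isMaximal C).ne_top hle)
  haveI : IsLocalRing (C ⧸ K) := IsLocalRing.of_surjective' _ Ideal.Quotient.mk_surjective
  let Q : CommRingCat.{u} := CommRingCat.of (C ⧸ K)
  haveI : IsLocalRing Q := ‹IsLocalRing (C ⧸ K)›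
  let q : (pullback f g).presheaf.stalk z ⟶ Q := CommRingCat.ofHom (Ideal.Quotient.mk K)
  haveI : IsLocalHom q.hom := IsLocalHom.of_surjective _ Ideal.Quotient.mk_surjective
  let ψX : X.residueField (pullback.fst f g z) ⟶ Q :=
    CommRingCat.ofHom (Ideal.quotientMap K ((pullback.fst f g).stalkMap z).hom
      (Ideal.map_le_iff_le_comap.1 le_sup_left))
  let ψY : Y.residueField (pullback.snd f g z) ⟶ Q :=
    CommRingCat.ofHom (Ideal.quotientMap K ((pullback.snd f g).stalkMap z).hom
      (Ideal.map_le_iff_le_comap.1 le_sup_right))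
  have hψX : X.residue _ ≫ ψX = (pullback.fst f g).stalkMap z ≫ q := rfl
  have hψY : Y.residue _ ≫ ψY = (pullback.snd f g).stalkMap z ≫ q := rfl
  let a : Spec Q ⟶ pullback f g := Spec.map q ≫ (pullback f g).fromSpecStalk z
  have haX : a ≫ pullback.fst f g = Spec.map ψX ≫ X.fromSpecResidueField x := by
    rw [Category.assoc, ← Scheme.SpecMap_stalkMap_fromSpecStalk, ← Spec.map_comp_assoc, ← hψX, Spec.map_comp_assoc]
    rfl
  have haY : a ≫ pullback.snd f g = Spec.map ψY ≫ Y.fromSpecResidueField y := by
    rw [Category.assoc, ← Scheme.SpecMap_stalkMap_fromSpecStalk, ← Spec.map_comp_assoc, ← hψY, Spec.map_comp_assoc]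
    rfl
  let L : Spec Q ⟶ pullback (X.fromSpecResidueField x ≫ f) (Y.fromSpecResidueField y ≫ g) :=
    pullback.lift (Spec.map ψX) (Spec.map ψY) (by
      rw [← Category.assoc, ← Category.assoc, ← haX, ← haY, Category.assoc, Category.assoc, pullback.condition]
      simp only [a, Category.assoc])
  have hL : L ≫ j = a := by
    apply pullback.hom_ext
    · rw [Category.assoc, pullback.lift_fst, pullback.lift_fst_assoc, haX]
    · rw [Category.assoc, pullback.lift_snd, pullback.lift_snd_assoc, haY]
  have hacp : a (closedPoint Q) = z := by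
    rw [Scheme.Hom.comp_apply, Spec_closedPoint, Scheme.fromSpecStalk_closedPoint]
  have hz : j (L (closedPoint Q)) = z := by rw [← Scheme.Hom.comp_apply, hL, hacp]
  refine ⟨L (closedPoint Q), hz, fun c => ⟨fun hc => ?_, fun hc => ?_⟩⟩
  · have h1 : Scheme.stalkClosedPointTo (L ≫ j) c = 0 := by
      rw [Scheme.stalkClosedPointTo_comp]
      change Scheme.stalkClosedPointTo L (j.stalkMap _ c) = 0
      rw [hc, map_zero]
    have h2 : ∀ (b : Spec Q ⟶ pullback f g) (_ : b = a) (hb : b (closedPoint Q) = z),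
        Scheme.stalkClosedPointTo b = ((pullback f g).presheaf.stalkCongr (.of_eq hb)).hom ≫ q := by
      rintro _ rfl hb
      refine TopCat.Presheaf.stalk_hom_ext _ fun U hU => ?_
      rw [Scheme.germ_stalkClosedPointTo_Spec_fromSpecStalk, TopCat.Presheaf.stalkCongr_hom,
        TopCat.Presheaf.germ_stalkSpecializes_assoc]
    have hg : (L ≫ j) (closedPoint Q) = z := by rw [hL, hacp]
    rw [h2 _ hL hg] at h1
    have h3 := Ideal.Quotient.eq_zero_iff_mem.1 h1
    have key : ∀ (z' : ↑(pullback f g)) (_ : z' = z) (hi : Inseparable z' z) (c : (pullback f g).presheaf.stalk z'),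
        ((pullback f g).presheaf.stalkCongr hi).hom c ∈ K →
        c ∈ (maximalIdeal (X.presheaf.stalk (pullback.fst f g z'))).map ((pullback.fst f g).stalkMap z').hom ⊔
          (maximalIdeal (Y.presheaf.stalk (pullback.snd f g z'))).map ((pullback.snd f g).stalkMap z').hom := by
      rintro _ rfl hi c hc
      simpa [TopCat.Presheaf.stalkCongr_hom, TopCat.Presheaf.stalkSpecializes_refl] using hc
    exact key _ hg (.of_eq hg) c h3
  · refine (RingHom.mem_ker).1 ((show _ ⊔ _ ≤ RingHom.ker (j.stalkMap (L (closedPoint Q))).hom from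
      sup_le ?_ ?_) hc)
    · refine Ideal.map_le_iff_le_comap.2 fun m hm => ?_
      rw [Ideal.mem_comap, RingHom.mem_ker]
      change ((pullback.fst f g).stalkMap _ ≫ j.stalkMap _) m = 0
      rw [← Scheme.Hom.stalkMap_comp]
      exact stalkMap_eq_zero_of_fac (pullback.fst _ _) (pullback.lift_fst _ _ _) _ m hm
    · refine Ideal.map_le_iff_le_comap.2 fun m hm => ?_
      rw [Ideal.mem_comap, RingHom.mem_ker]
      change ((pullback.snd f g).stalkMap _ ≫ j.stalkMap _) m = 0
      rw [← Scheme.Hom.stalkMap_comp]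
      exact stalkMap_eq_zero_of_fac (pullback.snd _ _) (pullback.lift_snd _ _ _) _ m hm

theorem mem_image_ass_pairMap_iff (f : X ⟶ S) (g : Y ⟶ S) (x : X) (y : Y) (z : ↑(pullback f g)) :
    z ∈ pairMap f g x y '' AssSch.Ass (Coh.structureModule _) ↔
      pullback.fst f g z = x ∧ pullback.snd f g z = y ∧ AssPt f g z := by
  have key : ∀ (x : X) (y : Y) (t : ↑(pullback (X.fromSpecResidueField x ≫ f) (Y.fromSpecResidueField y ≫ g))),
      x = pullback.fst f g (pairMap f g x y t) → y = pullback.snd f g (pairMap f g x y t) →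
      (Curv2.IsAssPoint (Coh.structureModule _) t ↔ AssPt f g (pairMap f g x y t)) := by
    intro x y t hx hy
    obtain ⟨w, hw⟩ : ∃ w, w = pairMap f g x y t := ⟨_, rfl⟩
    rw [← hw] at hx hy
    subst hx hy
    obtain ⟨t', ht', hker⟩ := exists_pairMap_ker f g w
    obtain rfl : t' = t := (pairMap f g _ _).isEmbedding.injective (ht'.trans hw)
    rw [AssLib.ass_struct_iff]
    exact isAss_iff_quotient_of_surjective ((pairMap f g _ _).stalkMap t').hom
      ((pairMap f g _ _).stalkMap_surjective t') (Ideal.ext fun c => (RingHom.mem_ker).trans (hker c))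
  constructor
  · rintro ⟨t, ht, rfl⟩
    obtain ⟨h1, h2⟩ := pairMap_proj f g x y t
    exact ⟨h1, h2, (key x y t h1.symm h2.symm).1 ht⟩
  · rintro ⟨rfl, rfl, h⟩
    obtain ⟨t, ht, -⟩ := exists_pairMap_ker f g z
    refine ⟨t, (key _ _ t (by rw [ht]) (by rw [ht])).2 (by rw [ht]; exact h), ht⟩

theorem mem_ass_tensor_iff (f : X ⟶ S) (g : Y ⟶ S) [IsLocallyNoetherian X] [IsLocallyNoetherian Y]
    (F : X.Modules) (G : Y.Modules) (hGfl : FlatMod.IsFlatOver g G) (z : ↑(pullback f g)) :
    z ∈ AssSch.Ass (CohB1.tensorMod ((Scheme.Modules.pullback (pullback.fst f g)).obj F)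
        ((Scheme.Modules.pullback (pullback.snd f g)).obj G)) ↔
      Curv2.IsAssPoint F (pullback.fst f g z) ∧ AssFibre g G (pullback.snd f g z) ∧ AssPt f g z := by
  let x := pullback.fst f g z
  let y := pullback.snd f g z
  let R := S.presheaf.stalk (f x)
  let A := X.presheaf.stalk x
  let B := Y.presheaf.stalk y
  let C := (pullback f g).presheaf.stalk z
  letI : Algebra R A := (f.stalkMap x).hom.toAlgebra
  letI : Algebra R B := (BCStalk.baseMap f g z).hom.toAlgebra
  letI : Algebra A C := ((pullback.fst f g).stalkMap z).hom.toAlgebra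
  letI : Algebra B C := ((pullback.snd f g).stalkMap z).hom.toAlgebra
  letI : Algebra R C := (f.stalkMap x ≫ (pullback.fst f g).stalkMap z).hom.toAlgebra
  haveI : IsScalarTower R A C := IsScalarTower.of_algebraMap_eq fun _ => rfl
  haveI : IsScalarTower R B C := IsScalarTower.of_algebraMap_eq fun a => congr(($(BCStalk.comm f g z)).hom a)
  have hi : Inseparable (g y) (f x) := .of_eq (BCStalk.base_eq f g z)
  let σ : R ≃+* S.presheaf.stalk (g y) := (S.presheaf.stalkCongr hi.symm).commRingCatIsoToRingEquiv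
  have hσ : ∀ r, algebraMap R B r = (g.stalkMap y).hom (σ r) := fun _ => rfl
  haveI : IsLocalHom (algebraMap R A) := inferInstanceAs (IsLocalHom (f.stalkMap x).hom)
  haveI : IsLocalHom (algebraMap R B) := ⟨fun r hr => by
    rw [hσ] at hr
    simpa using (isUnit_of_map_unit (g.stalkMap y).hom _ hr).map σ.symm⟩
  haveI : IsLocalHom (algebraMap A C) := inferInstanceAs (IsLocalHom ((pullback.fst f g).stalkMap z).hom)
  haveI : IsLocalHom (algebraMap B C) := inferInstanceAs (IsLocalHom ((pullback.snd f g).stalkMap z).hom)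
  have hmax : (maximalIdeal R).map (algebraMap R B) = (maximalIdeal (S.presheaf.stalk (g y))).map (g.stalkMap y).hom := by
    have h1 : maximalIdeal (S.presheaf.stalk (g y)) = (maximalIdeal R).map σ.toRingHom := by
      ext r
      rw [Ideal.mem_map_iff_of_surjective σ.toRingHom σ.surjective]
      refine ⟨fun hr => ⟨σ.symm r, fun hu => hr (by simpa using hu.map σ), σ.apply_symm_apply r⟩, ?_⟩
      rintro ⟨a, ha, rfl⟩ hu
      exact ha (by simpa using hu.map σ.symm)
    rw [h1, Ideal.map_map]
    rfl
  letI : Algebra R (S.presheaf.stalk (g y)) := σ.toRingHom.toAlgebra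
  letI := FlatMod.moduleStalkOver g G y
  letI : Module R (G.presheaf.stalk y) := Module.compHom _ (algebraMap R B)
  haveI : IsScalarTower R B (G.presheaf.stalk y) := IsScalarTower.of_algebraMap_smul fun _ _ => rfl
  haveI : IsScalarTower R (S.presheaf.stalk (g y)) (G.presheaf.stalk y) :=
    IsScalarTower.of_algebraMap_smul fun _ _ => rfl
  haveI : Module.Flat R (S.presheaf.stalk (g y)) := RingHom.Flat.of_bijective (f := σ.toRingHom) σ.bijective
  haveI : Module.Flat (S.presheaf.stalk (g y)) (G.presheaf.stalk y) := hGfl y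
  haveI : Module.Flat R (G.presheaf.stalk y) := Module.Flat.trans R (S.presheaf.stalk (g y)) _
  show Curv2.IsAssPoint _ z ↔ _
  rw [Curv2.IsAssPoint, ← LinearEquiv.isAssociatedPrime_iff (tensorEquiv _ _ z),
    ← LinearEquiv.isAssociatedPrime_iff (TensorProduct.congr (pullEquiv (pullback.fst f g) F z)
      (pullEquiv (pullback.snd f g) G z))]
  refine (isAss_pair_iff (R := R) (BCStalk.flat_cmpHom f g z) (F.presheaf.stalk x) (G.presheaf.stalk y)).trans ?_
  rw [hmax]
  rfl

end Groth.Agent.AssTensor
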