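import Groth.Agent.AssTensor.Sch
import Groth.Agent.FlatDepth.SkTensor
import Groth.Agent.FlatModB.QuasiFlat
import Groth.Agent.SupportLib.Pull
import Groth.Agent.InjFibre.Stalk
import Groth.Agent.QC.Pullback

/-!
Associated points of `f^*E ⊗ F` for `F` flat over the base.
-/

set_option autoImplicit false
set_option linter.style.haveILetI false
set_option backward.isDefEq.respectTransparency false

universe u

open CategoryTheory CategoryTheory.Limits AlgebraicGeometry IsLocalRing TensorProduct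

namespace Groth.Agent.AssTensor

variable {X Y : Scheme.{u}}

/-- Stalk of `f^*E ⊗ F`. -/
noncomputable def singleEquiv (f : X ⟶ Y) (E : Y.Modules) (F : X.Modules) (x : X) :
    letI := (f.stalkMap x).hom.toAlgebra
    letI := FlatMod.moduleStalkOver f F x
    haveI : IsScalarTower (Y.presheaf.stalk (f x)) (X.presheaf.stalk x) (F.presheaf.stalk x) :=
      IsScalarTower.of_algebraMap_smul fun _ _ => rfl
    (F.presheaf.stalk x ⊗[Y.presheaf.stalk (f x)] E.presheaf.stalk (f x)) ≃ₗ[X.presheaf.stalk x]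
      (CohB1.tensorMod ((Scheme.Modules.pullback f).obj E) F).presheaf.stalk x :=
  letI := (f.stalkMap x).hom.toAlgebra
  letI := FlatMod.moduleStalkOver f F x
  haveI : IsScalarTower (Y.presheaf.stalk (f x)) (X.presheaf.stalk x) (F.presheaf.stalk x) :=
    IsScalarTower.of_algebraMap_smul fun _ _ => rfl
  ((TensorProduct.AlgebraTensorModule.cancelBaseChange (Y.presheaf.stalk (f x)) (X.presheaf.stalk x)
      (X.presheaf.stalk x) (F.presheaf.stalk x) (E.presheaf.stalk (f x))).symm.trans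
    ((TensorProduct.comm (X.presheaf.stalk x) _ _).trans
      (TensorProduct.congr (pullEquiv f E x) (LinearEquiv.refl _ _)))).trans (tensorEquiv _ F x)

theorem mem_ass_pull_tensor_iff (f : X ⟶ Y) [IsLocallyNoetherian Y] (E : Y.Modules) (F : X.Modules)
    (hfl : FlatMod.IsFlatOver f F) (x : X) :
    x ∈ AssSch.Ass (CohB1.tensorMod ((Scheme.Modules.pullback f).obj E) F) ↔
      Curv2.IsAssPoint E (f x) ∧ AssFibre f F x := by
  letI := (f.stalkMap x).hom.toAlgebra
  letI := FlatMod.moduleStalkOver f F x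
  haveI : IsScalarTower (Y.presheaf.stalk (f x)) (X.presheaf.stalk x) (F.presheaf.stalk x) :=
    IsScalarTower.of_algebraMap_smul fun _ _ => rfl
  haveI : IsLocalHom (algebraMap (Y.presheaf.stalk (f x)) (X.presheaf.stalk x)) :=
    inferInstanceAs (IsLocalHom (f.stalkMap x).hom)
  haveI : Module.Flat (Y.presheaf.stalk (f x)) (F.presheaf.stalk x) := hfl x
  show Curv2.IsAssPoint _ x ↔ _
  rw [Curv2.IsAssPoint, ← LinearEquiv.isAssociatedPrime_iff (singleEquiv f E F x)]
  exact isAss_tensor_iff (R := Y.presheaf.stalk (f x)) (S := X.presheaf.stalk x) _ _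

theorem nontrivial_of_assFibre (f : X ⟶ Y) (F : X.Modules) (x : X) (h : AssFibre f F x) :
    Nontrivial (F.presheaf.stalk x) := by
  by_contra hn
  haveI : Subsingleton (F.presheaf.stalk x) := not_nontrivial_iff_subsingleton.1 hn
  exact not_isAssociatedPrime_of_subsingleton h

theorem exists_assFibre_specializes (f : X ⟶ Y) (F : X.Modules) (hF : Coh.IsCoh F) {x₀ : X}
    (hx₀ : x₀ ∈ CohB1.support F) : ∃ x, x ⤳ x₀ ∧ f x = f x₀ ∧ AssFibre f F x := by
  haveI := hF.1
  obtain ⟨w₀, hw₀⟩ := (f.range_fiberι (f x₀)).ge (rfl : f x₀ = f x₀)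
  have h1 : w₀ ∈ CohB1.support ((Scheme.Modules.pullback (f.fiberι (f x₀))).obj F) := by
    rw [SupportLib.support_pullback _ F hF.2]
    show f.fiberι (f x₀) w₀ ∈ CohB1.support F
    rw [hw₀]
    exact hx₀
  obtain ⟨w, hw, hwa⟩ := AssLib.exists_ass_specializes (QC.isQCoh_pullback _ hF.1)
    (not_subsingleton_iff_nontrivial.1 h1)
  exact ⟨f.fiberι _ w, (hw.map (f.fiberι _).continuous).trans (specializes_of_eq hw₀), (f.range_fiberι _).le ⟨w, rfl⟩,
    (isAssPoint_fibre_iff f F _ w).1 hwa⟩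

theorem exists_generization_support (f : X ⟶ Y) (F : X.Modules) (hF : Coh.IsCoh F)
    (hfl : FlatMod.IsFlatOver f F) {x : X} (hx : x ∈ CohB1.support F) {y : Y} (hy : y ⤳ f x) :
    ∃ x', x' ⤳ x ∧ f x' = y ∧ x' ∈ CohB1.support F := by
  obtain ⟨V, hV, hxV, -⟩ := exists_isAffineOpen_mem_and_subset (X := Y) (x := f x) (U := ⊤) trivial
  obtain ⟨U, hU, hxU, hUV⟩ := exists_isAffineOpen_mem_and_subset (X := X) (x := x) (U := f ⁻¹ᵁ V) hxV
  have hyV : y ∈ V := hy.mem_open V.2 hxV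
  letI : Algebra Γ(Y, V) Γ(X, U) := (f.appLE V U hUV).hom.toAlgebra
  letI := FlatModB.secModule f F U V hUV
  haveI : IsScalarTower Γ(Y, V) Γ(X, U) Γ(F, U) :=
    ⟨fun a c m => mul_smul ((f.appLE V U hUV).hom a) c m⟩
  haveI : Module.Flat Γ(Y, V) Γ(F, U) :=
    (FlatModB.flat_sections_iff f F hF.1 hU hV hUV).2 fun z _ => hfl z
  haveI : Module.Finite Γ(X, U) Γ(F, U) := (QC.isCoh_iff_finite_sections.mp hF).2 ⟨U, hU⟩
  have hsupp : ∀ (z : X) (hz : z ∈ U),
      hU.primeIdealOf ⟨z, hz⟩ ∈ Module.support Γ(X, U) Γ(F, U) ↔ z ∈ CohB1.support F := fun z hz => by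
    letI := Module.compHom (F.presheaf.stalk z) (X.presheaf.germ U z hz).hom
    obtain ⟨g, hg⟩ := LocFree.exists_stalkMap hU hF.1 hz
    haveI := hg
    rw [Module.mem_support_iff]
    exact (IsLocalizedModule.iso (hU.primeIdealOf ⟨z, hz⟩).asIdeal.primeCompl g).toEquiv.nontrivial_congr.trans
      not_subsingleton_iff_nontrivial.symm
  let P := hU.primeIdealOf ⟨x, hxU⟩
  let q := hV.primeIdealOf ⟨y, hyV⟩
  have hcomap : PrimeSpectrum.comap (f.appLE V U hUV).hom P = hV.primeIdealOf ⟨f x, hxV⟩ :=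
    IsAffineOpen.comap_primeIdealOf_appLE (f := f) V hV U hU hUV hxU
  have hq : q.asIdeal ≤ P.asIdeal.comap (algebraMap Γ(Y, V) Γ(X, U)) := by
    have h1 : (⟨y, hyV⟩ : V) ⤳ ⟨f x, hxV⟩ := Topology.IsInducing.subtypeVal.specializes_iff.mp hy
    have h2 := (PrimeSpectrum.le_iff_specializes _ _).mpr (h1.map hV.isoSpec.hom.continuous)
    change q.asIdeal ≤ (PrimeSpectrum.comap (f.appLE V U hUV).hom P).asIdeal
    rw [hcomap]
    exact h2
  obtain ⟨Q, hQs, hQP, hQ⟩ := FlatDepth.exists_support_le (F := Γ(F, U)) P ((hsupp x hxU).2 hx) q hq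
  obtain ⟨hz, hz'⟩ := InjFibre.primeIdealOf_fromSpec hU Q
  refine ⟨hU.fromSpec Q, ?_, ?_, (hsupp _ hz).1 (hz'.symm ▸ hQs)⟩
  · have := ((PrimeSpectrum.le_iff_specializes Q P).mp hQP).map hU.fromSpec.continuous
    rwa [hU.fromSpec_primeIdealOf ⟨x, hxU⟩] at this
  · have h3 : Spec.map (f.appLE V U hUV) Q = q := PrimeSpectrum.ext hQ
    rw [← Scheme.Hom.comp_apply, ← hV.SpecMap_appLE_fromSpec f hU hUV, Scheme.Hom.comp_apply, h3]
    exact hV.fromSpec_primeIdealOf ⟨y, hyV⟩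

theorem noEmbedded_pull_tensor_iff [IsLocallyNoetherian X] [IsLocallyNoetherian Y] (f : X ⟶ Y) (E : Y.Modules)
    (F : X.Modules) (hF : Coh.IsCoh F) (hfl : FlatMod.IsFlatOver f F) :
    AssSch.NoEmbedded (CohB1.tensorMod ((Scheme.Modules.pullback f).obj E) F) ↔
      ∀ y ∈ AssSch.Ass E ∩ f.base '' CohB1.support F, (∀ y' ∈ AssSch.Ass E, y' ⤳ y → y' = y) ∧
        AssSch.NoEmbedded ((Scheme.Modules.pullback (f.fiberι y)).obj F) := by
  constructor
  · rintro h y ⟨hy, x₀, hx₀, rfl⟩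
    refine ⟨fun y' hy' hsp => ?_, fun w hw w' hw' hsp => ?_⟩
    · obtain ⟨x, -, hfx, hxA⟩ := exists_assFibre_specializes f F hF hx₀
      obtain ⟨x₁, hx₁, hfx₁, hx₁s⟩ := exists_generization_support f F hF hfl
        (not_subsingleton_iff_nontrivial.2 (nontrivial_of_assFibre f F x hxA)) (hfx.symm ▸ hsp)
      obtain ⟨x', hx', hfx', hx'A⟩ := exists_assFibre_specializes f F hF hx₁s
      have := h x ((mem_ass_pull_tensor_iff f E F hfl x).2 ⟨hfx.symm ▸ hy, hxA⟩) x'
        ((mem_ass_pull_tensor_iff f E F hfl x').2 ⟨by rw [hfx', hfx₁]; exact hy', hx'A⟩) (hx'.trans hx₁)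
      rw [← hfx₁, ← hfx', ← this]
      exact hfx
    · have hι : ∀ v, f (f.fiberι (f x₀) v) = f x₀ := fun v => (f.range_fiberι (f x₀)).le ⟨v, rfl⟩
      have := h _ ((mem_ass_pull_tensor_iff f E F hfl (f.fiberι _ w)).2
          ⟨(hι w).symm ▸ hy, (isAssPoint_fibre_iff f F _ w).1 hw⟩) _
        ((mem_ass_pull_tensor_iff f E F hfl (f.fiberι _ w')).2
          ⟨(hι w').symm ▸ hy, (isAssPoint_fibre_iff f F _ w').1 hw'⟩) (hsp.map (f.fiberι _).continuous)
      exact (f.fiberι _).isEmbedding.injective this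
  · intro h x hx x' hx' hsp
    obtain ⟨hE, hA⟩ := (mem_ass_pull_tensor_iff f E F hfl x).1 hx
    obtain ⟨hE', hA'⟩ := (mem_ass_pull_tensor_iff f E F hfl x').1 hx'
    obtain ⟨hmax, hne⟩ := h (f x) ⟨hE, x, not_subsingleton_iff_nontrivial.2 (nontrivial_of_assFibre f F x hA), rfl⟩
    have he : f x' = f x := hmax _ hE' (hsp.map f.continuous)
    obtain ⟨w, hw⟩ := (f.range_fiberι (f x)).ge (rfl : f x = f x)
    obtain ⟨w', hw'⟩ := (f.range_fiberι (f x)).ge he
    have hsp' : w' ⤳ w := by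
      rw [← (f.fiberι _).isEmbedding.isInducing.specializes_iff, hw, hw']
      exact hsp
    rw [← hw, ← hw', hne w ((isAssPoint_fibre_iff f F _ w).2 (by rw [hw]; exact hA)) w'
      ((isAssPoint_fibre_iff f F _ w').2 (by rw [hw']; exact hA')) hsp']

end Groth.Agent.AssTensor
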